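import Cfsg.Agent.Lib.KnownB.D4Torus.Psi

/-!
The centraliser of the torus element with parameter `(s², N s, s^(2q), s^(2q²))` in ³D₄(q).
-/

set_option autoImplicit false
set_option maxRecDepth 20000
set_option Elab.async false

namespace CfsgLib.D4Torus

open CfsgLib.Chevalley CfsgLib.Chevalley.Tbl

local notation "T₄" => Data.D4.tbl

variable {K : Type*} [Field K] [Finite K] {q : ℕ} (hq : IsPrimePow q) (hK : Nat.card K = q ^ 3)

local notation "SS" => AbSetup.S (Twist.D4.setup hq hK)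
local notation "GG" => GL Data.D4.tbl.I K

/-- A fixed point commuting with a torus element has a fixed canonical form commuting with it. -/
theorem decompose_fix {f : Fin (T₄).rank → Kˣ} {g : GG} (hg : g ∈ (SS).fix)
    (h : torusHom T₄ K f * g = g * torusHom T₄ K f) :
    ∃ a ∈ (T₄).rootGen K (fun r => (T₄).half ≤ r), a ∈ (SS).fix ∧ ∃ n ∈ (T₄).datum.monomialSubgroup K,
      n ∈ (SS).fix ∧ ∃ w ∈ (SS).W1, (T₄).Mono n w ∧ ∃ u ∈ (T₄).rootGen K ((T₄).negSet w), u ∈ (SS).fix ∧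
        g = a * n * u ∧ torusHom T₄ K f * a = a * torusHom T₄ K f ∧
        torusHom T₄ K f * u = u * torusHom T₄ K f ∧
        ∀ s : Fin (T₄).n, CoxeterTorus.tCh T₄ f (w s).val = CoxeterTorus.tCh T₄ f s.val := by
  have hT := Data.D4.valid
  obtain ⟨a, ha, haf, n, hn, hnf, w, hw, hm, u, hu, huf, rfl⟩ := (SS).fix_canonical hg
  refine ⟨a, ha, haf, n, hn, hnf, w, hw, hm, u, hu, huf, rfl, ?_⟩
  set t := torusHom T₄ K f
  have htd : t ∈ (T₄).datum.diagonalSubgroup K := by rw [← torusHom_range hT]; exact ⟨f, rfl⟩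
  have hv1 : t * a * t⁻¹ ∈ (T₄).rootGen K (fun r => (T₄).half ≤ r) :=
    (Subgroup.mem_normalizer_iff.mp (diag_le_normalizer hT _ htd) a).mp ha
  have hv2 : t⁻¹ * u * t ∈ (T₄).rootGen K ((T₄).negSet w) := by
    have := (Subgroup.mem_normalizer_iff.mp (diag_le_normalizer hT ((T₄).negSet w) (inv_mem htd)) u).mp hu
    rwa [inv_inv] at this
  have hd : n * t * n⁻¹ ∈ (T₄).datum.diagonalSubgroup K := conj_diag hT hn htd
  have hB : ∀ v ∈ (T₄).rootGen K (fun r => (T₄).half ≤ r), ∀ k ∈ (T₄).datum.diagonalSubgroup K,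
      v * k ∈ (T₄).datum.borelSubgroup K := fun v hv k hk =>
    mul_mem (Subgroup.mem_sup_left (by rw [posUnipotent_rootGen hT]; exact hv)) (Subgroup.mem_sup_right hk)
  have he : t * a * t⁻¹ * t * n * u = a * (n * t * n⁻¹) * n * (t⁻¹ * u * t) := by
    calc t * a * t⁻¹ * t * n * u = t * (a * n * u) := by group
      _ = a * n * u * t := h
      _ = a * (n * t * n⁻¹) * n * (t⁻¹ * u * t) := by group
  obtain ⟨-, h2⟩ := canonical_unique hT Data.D4.chkComm (hB _ hv1 _ htd) (hB _ ha _ hd) hn hn hm hu hv2 he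
  obtain ⟨eb, eu⟩ := h2 hm rfl
  obtain ⟨e1, e2⟩ := borel_unique hT Data.D4.chkComm hv1 ha htd hd eb
  refine ⟨?_, ?_, ?_⟩
  · conv_rhs => rw [← e1, inv_mul_cancel_right]
  · calc t * u = t * (t⁻¹ * u * t) := congrArg (t * ·) eu
      _ = u * t := by group
  · refine (CoxeterTorus.mono_rel hT hn hm f f).1 ?_
    show n * t = t * n
    exact (mul_inv_eq_iff_eq_mul.1 e2.symm)

omit hq hK [Finite K] in
/-- The coefficients of a positive unipotent element commuting with a torus element. -/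
theorem unip_coeff {f : Fin (T₄).rank → Kˣ} {u : GG}
    (hu : u ∈ (T₄).rootGen K (fun r => (T₄).half ≤ r))
    (hc : torusHom T₄ K f * u = u * torusHom T₄ K f) :
    ∃ a : ℕ → K, u = (T₄).uProd a 12 12 ∧ ∀ r, 12 ≤ r → r < 24 → CoxeterTorus.tCh T₄ f r ≠ 1 → a r = 0 := by
  have hT := Data.D4.valid
  have hn : (T₄).n = 24 := by decide
  have hh : (T₄).half = 12 := rfl
  obtain ⟨a, rfl⟩ := exists_uProd hT Data.D4.chkComm 12 12 (by omega) (by omega) u hu
  refine ⟨a, rfl, fun r hr1 hr2 hne => ?_⟩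
  have e1 : MulAut.conj (torusHom T₄ K f) ((T₄).uProd a 12 12) =
      (T₄).uProd (fun r => (CoxeterTorus.tCh T₄ f r : K) * a r) 12 12 := by
    simp only [uProd, map_list_prod, List.map_map]
    refine congrArg List.prod (List.map_congr_left fun r hr => ?_)
    simp only [List.mem_range'_1] at hr
    show torusHom T₄ K f * (T₄).xU K r (a r) * (torusHom T₄ K f)⁻¹ = _
    rw [CoxeterTorus.torus_xU hT f ⟨r, by omega⟩, mul_inv_cancel_right]
  have e2 : MulAut.conj (torusHom T₄ K f) ((T₄).uProd a 12 12) = (T₄).uProd a 12 12 := by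
    rw [MulAut.conj_apply, hc, mul_inv_cancel_right]
  have h0 := uProd_inj hT Data.D4.chkComm 12 12 (by omega) (by omega) _ _ (e1.symm.trans e2) r hr1 (by omega)
  by_contra ha
  exact hne (Units.ext (mul_right_cancel₀ ha (by rw [Units.val_one, one_mul]; exact h0)))

/-- The generic parameter. -/
noncomputable def fs (q : ℕ) (s : Kˣ) : Fin (Data.D4.tbl).rank → Kˣ := fT q (s * s) (Nm q s)

theorem tCh_fs (s : Kˣ) (r : ℕ) : CoxeterTorus.tCh T₄ (fs q s) r = s ^ expo q r := by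
  rw [fs, tCh_fT]
  have e1 : s * s = s ^ (2 : ℤ) := (_root_.zpow_two s).symm
  have e2 : Nm q s = s ^ ((1 : ℤ) + q + q * q) := by
    show s * s ^ q * (s ^ q) ^ q = _
    rw [zpow_add, zpow_add, zpow_one, zpow_mul, zpow_natCast, zpow_natCast]
  rw [e2, e1]
  have e3 : ((s ^ (2 : ℤ)) ^ q) ^ q = s ^ ((2 : ℤ) * q * q) := by rw [zpow_mul, zpow_mul, zpow_natCast, zpow_natCast]
  have e4 : (s ^ (2 : ℤ)) ^ q = s ^ ((2 : ℤ) * q) := by rw [zpow_mul, zpow_natCast]
  rw [e3, e4]
  simp only [← zpow_mul, ← zpow_add]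
  congr 1
  simp only [expo, dig]
  simp only [if_pos, one_ne_zero, if_false, show ¬ (2 : ℕ) = 0 by norm_num, show ¬ (2 : ℕ) = 1 by norm_num]
  ring

include hq hK in
/-- For a generator and `q ≥ 3` equal values come from equal classes. -/
theorem class_of_eq {s : Kˣ} (hs : orderOf s = Nat.card Kˣ) (h3 : 3 ≤ q) {r j : ℕ} (hr : r < 24) (hj : j < 4)
    (h : CoxeterTorus.tCh T₄ (fs q s) r = CoxeterTorus.tCh T₄ (fs q s) (simp4 j)) : r ∈ cls j := by
  rw [tCh_fs, tCh_fs, zpow_eq_zpow_iff_modEq, hs, Nat.card_units, hK] at h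
  refine class_of_dvd h3 hr hj ?_
  have e : ((q ^ 3 - 1 : ℕ) : ℤ) = modN q := by
    have := one_le_pow₀ (M₀ := ℕ) (n := 3) (show 1 ≤ q by omega)
    rw [Nat.cast_sub this]
    push_cast [modN]
    ring
  rw [e] at h
  exact Int.modEq_iff_dvd.1 h.symm

theorem expo_central (q : ℕ) : expo q 14 = 0 := by
  have h : dig 0 14 = 0 ∧ dig 1 14 = 0 ∧ dig 2 14 = 0 := by decide +kernel
  simp [expo, h.1, h.2.1, h.2.2]

include hq hK in
/-- A positive fixed unipotent element commuting with the generic torus element. -/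
theorem unip_generic {s : Kˣ} (hs : orderOf s = Nat.card Kˣ) (h3 : 3 ≤ q) {u : GG}
    (hu : u ∈ (T₄).rootGen K (fun r => (T₄).half ≤ r)) (huf : u ∈ (SS).fix)
    (hc : torusHom T₄ K (fs q s) * u = u * torusHom T₄ K (fs q s)) : u ∈ (Psi hq hK).range := by
  obtain ⟨a, rfl, ha⟩ := unip_coeff hu hc
  have hz : ∀ r, 12 ≤ r → r < 24 → r ≠ 14 → a r = 0 := fun r h1 h2 hne => ha r h1 h2 fun h => by
    have h14 : CoxeterTorus.tCh T₄ (fs q s) (simp4 1) = 1 := by
      rw [show simp4 1 = 14 by decide +kernel, tCh_fs, expo_central, zpow_zero]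
    have := class_of_eq hq hK hs h3 h2 (j := 1) (by norm_num) (h.trans h14.symm)
    simp [cls] at this
    omega
  have hn : (T₄).n = 24 := by decide
  have e : (T₄).uProd a 12 12 = (T₄).xU K 14 (a 14) := by
    simp only [uProd, show List.range' 12 12 = [12, 13, 14, 15, 16, 17, 18, 19, 20, 21, 22, 23] from rfl,
      List.map_cons, List.map_nil, List.prod_cons, List.prod_nil]
    simp only [hz 12, hz 13, hz 15, hz 16, hz 17, hz 18, hz 19, hz 20, hz 21, hz 22, hz 23, le_refl,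
      Nat.reduceLeDiff, Nat.reduceLT, Nat.reduceEqDiff, ne_eq, not_false_eq_true, xU_zero Data.D4.valid, hn,
      one_mul, mul_one]
  rw [e] at huf ⊢
  have h1 := huf.2
  rw [sg_central hq hK (by simp)] at h1
  have ht : a 14 ∈ kF hq hK := xU_inj Data.D4.valid lt14 h1
  rw [← φ_ux hq hK ⟨a 14, ht⟩]
  exact φ_mem_range hq hK _

include hq hK in
/-- The fixed points commuting with the generic torus element lie in the Levi subgroup. -/
theorem levi_generic {s : Kˣ} (hs : orderOf s = Nat.card Kˣ) (h3 : 3 ≤ q) {g : GG} (hg : g ∈ (SS).fix)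
    (h : torusHom T₄ K (fs q s) * g = g * torusHom T₄ K (fs q s)) : g ∈ (Psi hq hK).range := by
  obtain ⟨a, ha, haf, n, hn, hnf, w, hw, hm, u, hu, huf, rfl, hca, hcu, hrel⟩ := decompose_fix hq hK hg h
  have hT := Data.D4.valid
  refine mul_mem (mul_mem (unip_generic hq hK hs h3 ha haf hca) ?_)
    (unip_generic hq hK hs h3 (rootGen_mono (fun r _ h => h.2.1) hu) huf hcu)
  have hwP : w ∈ (T₄).WP Data.D4.valid := (Subgroup.mem_inf.1 hw).1
  have hsc : ∀ i : Fin 4, (w ((T₄).simpF Data.D4.valid i)).val ∈ cls i.val := fun i =>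
    class_of_eq hq hK hs h3 (w _).2 i.2 (hrel ((T₄).simpF Data.D4.valid i))
  have key : ∀ m ∈ (T₄).datum.monomialSubgroup K, m ∈ (SS).fix → (T₄).Mono m 1 → m ∈ (Psi hq hK).range := by
    intro m hmN hmf hm1
    have : m ∈ (T₄).datum.diagonalSubgroup K ⊓ (SS).fix := ⟨mem_diag_of_mono_one hT hmN hm1, hmf⟩
    rw [Twist.D4.diag_fix hq hK] at this
    obtain ⟨f, hf, rfl⟩ := this
    exact torus_mem_range hq hK hf
  rcases stab_cases hwP hsc with rfl | rfl
  · exact key n hn hnf hm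
  · have hnm : (T₄).Mono (φ hq hK SL2.wn) ((T₄).refP Data.D4.valid (1 : Fin 4)) := by
      rw [φ_wn]
      exact mono_nU_simple Data.D4.valid (1 : Fin 4)
    have hnN : φ hq hK SL2.wn ∈ (T₄).datum.monomialSubgroup K := by
      rw [φ_wn]
      exact (SS).nU_mem_N ⟨14, lt14⟩ one_ne_zero
    have h2 := key (n * (φ hq hK SL2.wn)⁻¹) (mul_mem hn (inv_mem hnN))
      (mul_mem hnf (inv_mem (φ_mem hq hK _))) (by simpa using hm.mul hnm.inv)
    have := mul_mem h2 (φ_mem_range hq hK SL2.wn)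
    rwa [inv_mul_cancel_right] at this

end CfsgLib.D4Torus
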