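import Cfsg.Agent.Lib.KnownB.D4Torus.Torus

/-!
The self-centralising cyclic subgroup of order (q³ − 1)(q + 1) of ³D₄(q), `q ≥ 3`.
-/

set_option autoImplicit false
set_option maxRecDepth 20000
set_option Elab.async false

namespace CfsgLib.D4Torus

open CfsgLib.Chevalley CfsgLib.Chevalley.Tbl Matrix

local notation "T₄" => Data.D4.tbl

variable {K : Type*} [Field K] [Finite K] {q : ℕ} (hq : IsPrimePow q) (hK : Nat.card K = q ^ 3)

local notation "SS" => AbSetup.S (Twist.D4.setup hq hK)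
local notation "GG" => GL Data.D4.tbl.I K

/-- A self-centralising cyclic subgroup inside the fixed points, given that whatever commutes with it lies in
the Levi subgroup. -/
theorem exists_of_levi
    (hlevi : ∀ p₀ : ↥(Pp hq hK), orderOf p₀ = (q ^ 3 - 1) * (q + 1) → orderOf p₀.1.1 = Nat.card Kˣ →
      (∀ s : Kˣ, torusHom T₄ K (fs q s) ∈ Subgroup.zpowers (Psi hq hK p₀)) →
      ∀ g ∈ (SS).fix, Commute g (Psi hq hK p₀) → g ∈ (Psi hq hK).range) :
    ∃ H : Subgroup ↥(SS).fix, IsCyclic ↥H ∧ Nat.card ↥H = (q ^ 3 - 1) * (q + 1) ∧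
      Subgroup.centralizer (H : Set ↥(SS).fix) = H := by
  classical
  have h2 : 2 ≤ q := hq.two_le
  obtain ⟨r, hr⟩ := CharP.exists ↥(kF hq hK)
  have hrp : r.Prime := CharP.char_is_prime ↥(kF hq hK) r
  have : Fact r.Prime := ⟨hrp⟩
  let L := FiniteField.Extension ↥(kF hq hK) r 2
  let b : Module.Basis (Fin 2) ↥(kF hq hK) L :=
    Module.finBasisOfFinrankEq _ _ (FiniteField.finrank_extension ↥(kF hq hK) r 2)
  have hL : Nat.card Lˣ = q ^ 2 - 1 := by
    rw [Nat.card_units, FiniteField.natCard_extension, card_kF hq hK]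
  have hKu : Nat.card Kˣ = q ^ 3 - 1 := by rw [Nat.card_units, hK]
  have hk : Nat.card (↥(kF hq hK))ˣ = q - 1 := by rw [Nat.card_units, card_kF hq hK]
  obtain ⟨z, hz⟩ := IsCyclic.exists_ofOrder_eq_natCard (α := Lˣ)
  set NL : Lˣ →* (↥(kF hq hK))ˣ := Units.map (Algebra.norm ↥(kF hq hK))
  have hNL : Function.Surjective NL := FiniteField.unitsMap_norm_surjective _ _
  have hzgen : Subgroup.zpowers z = ⊤ := Subgroup.eq_top_of_card_eq _ (by rw [Nat.card_zpowers, hz])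
  have hν : orderOf (NL z) = Nat.card (↥(kF hq hK))ˣ := by
    refine orderOf_eq_card_of_forall_mem_zpowers fun x => ?_
    obtain ⟨y, rfl⟩ := hNL x
    obtain ⟨n, rfl⟩ : y ∈ Subgroup.zpowers z := hzgen ▸ Subgroup.mem_top y
    exact ⟨n, (map_zpow NL z n).symm⟩
  obtain ⟨γ, hγ, hγN⟩ := exists_gen_map (NmF hq hK) (NmF_surjective hq hK) (NL z) hν
  have hγgen : Subgroup.zpowers γ = ⊤ := Subgroup.eq_top_of_card_eq _ (by rw [Nat.card_zpowers, hγ])
  have hp0 : (γ, rhoU b z) ∈ Pp hq hK := by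
    show GeneralLinearGroup.det (rhoU b z) = NmF hq hK γ
    rw [rhoU_det, hγN]
  set p₀ : ↥(Pp hq hK) := ⟨(γ, rhoU b z), hp0⟩
  have hrinj : Function.Injective (rhoU b) := Units.map_injective (Algebra.leftMulMatrix_injective b)
  have hord : orderOf p₀ = (q ^ 3 - 1) * (q + 1) := by
    rw [← Subgroup.orderOf_coe, Prod.orderOf]
    show (orderOf γ).lcm (orderOf (rhoU b z)) = _
    rw [orderOf_injective (rhoU b) hrinj, hγ, hz, hKu, hL]
    have hg : Nat.gcd (q ^ 3 - 1) (q ^ 2 - 1) = q - 1 := by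
      rw [Nat.pow_sub_one_gcd_pow_sub_one, show Nat.gcd 3 2 = 1 from rfl, pow_one]
    have h3 := Nat.gcd_mul_lcm (q ^ 3 - 1) (q ^ 2 - 1)
    rw [hg] at h3
    refine Nat.eq_of_mul_eq_mul_left (show 0 < q - 1 by omega) (h3.trans ?_)
    rw [show q ^ 2 - 1 = (q + 1) * (q - 1) by simpa using Nat.sq_sub_sq q 1]
    ring
  have hmem : ∀ (c : Kˣ) (y : Lˣ) (h : (c, rhoU b y) ∈ Pp hq hK),
      (⟨(c, rhoU b y), h⟩ : ↥(Pp hq hK)) ∈ Subgroup.zpowers p₀ := by
    intro c y h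
    obtain ⟨i, rfl⟩ := (mem_powers_iff_mem_zpowers.2 (hγgen ▸ Subgroup.mem_top c) : c ∈ Submonoid.powers γ)
    obtain ⟨j, rfl⟩ := (mem_powers_iff_mem_zpowers.2 (hzgen ▸ Subgroup.mem_top y) : y ∈ Submonoid.powers z)
    have e : GeneralLinearGroup.det (rhoU b (z ^ j)) = NmF hq hK (γ ^ i) := h
    rw [rhoU_det, map_pow, map_pow, hγN, pow_eq_pow_iff_modEq, hν, hk] at e
    have hg : Nat.gcd (q ^ 3 - 1) (q ^ 2 - 1) = q - 1 := by
      rw [Nat.pow_sub_one_gcd_pow_sub_one, show Nat.gcd 3 2 = 1 from rfl, pow_one]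
    obtain ⟨n, hn1, hn2⟩ := Nat.chineseRemainder' (n := q ^ 3 - 1) (m := q ^ 2 - 1) (a := i) (b := j)
      (by rw [hg]; exact e.symm)
    refine ⟨n, Subtype.ext ?_⟩
    show ((p₀ ^ (n : ℤ) : ↥(Pp hq hK)) : Kˣ × GL (Fin 2) ↥(kF hq hK)) = _
    rw [zpow_natCast, Subgroup.coe_pow]
    refine Prod.ext ?_ ?_
    · show γ ^ n = γ ^ i
      rw [pow_eq_pow_iff_modEq, hγ, hKu]
      exact hn1
    · show rhoU b z ^ n = rhoU b (z ^ j)
      rw [← map_pow]
      congr 1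
      rw [pow_eq_pow_iff_modEq, hz, hL]
      exact hn2
  have hfs : ∀ s : Kˣ, torusHom T₄ K (fs q s) ∈ Subgroup.zpowers (Psi hq hK p₀) := by
    intro s
    set ν := NmF hq hK s
    let y : Lˣ := Units.map (algebraMap ↥(kF hq hK) L).toMonoidHom ν
    have hy : (s * s, rhoU b y) ∈ Pp hq hK := by
      show GeneralLinearGroup.det (rhoU b y) = NmF hq hK (s * s)
      rw [rhoU_det, map_mul]
      refine Units.ext ?_
      show Algebra.norm ↥(kF hq hK) (algebraMap ↥(kF hq hK) L (ν : ↥(kF hq hK))) = _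
      rw [Algebra.norm_algebraMap_of_basis b, Fintype.card_fin, pow_two]
      rfl
    obtain ⟨n, hn⟩ := hmem _ y hy
    refine ⟨n, ?_⟩
    show Psi hq hK p₀ ^ n = _
    rw [← map_zpow, show p₀ ^ n = ⟨(s * s, rhoU b y), hy⟩ from hn, Psi_apply]
    have es : sPart (NmF hq hK (s * s)) _ (det_eq hq hK ⟨(s * s, rhoU b y), hy⟩) = SL2.dh ν⁻¹ := by
      refine sl_ext fun i j => ?_
      show sM (NmF hq hK (s * s)) (Algebra.leftMulMatrix b (algebraMap ↥(kF hq hK) L (ν : ↥(kF hq hK)))) i j = _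
      rw [AlgHom.commutes, map_mul]
      have hν0 := ν.ne_zero
      fin_cases i <;> fin_cases j <;>
        simp [sM, SL2.dh, Matrix.algebraMap_matrix_apply, ν]
    show tPart (q := q) (s * s) * φ hq hK _ = _
    rw [es, φ_dh, tPart, ← map_mul]
    congr 1
    refine funext fun (i : Fin 4) => ?_
    show fT q (s * s) (Nm q (s * s)) i * Pi.mulSingle (M := fun _ : Fin 4 => Kˣ) (1 : Fin 4) (uK hq hK ν⁻¹) i = _
    have hu : uK hq hK ν⁻¹ = (Nm q s)⁻¹ := by rw [map_inv, uK_NmF]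
    rw [hu, map_mul]
    fin_cases i <;> simp [fs, fT]
  have hgen : Psi hq hK p₀ ∈ (SS).fix := Psi_mem hq hK p₀
  set e : ↥(SS).fix := ⟨Psi hq hK p₀, hgen⟩
  refine ⟨Subgroup.zpowers e, inferInstance, ?_, le_antisymm ?_ ?_⟩
  · rw [Nat.card_zpowers, ← Subgroup.orderOf_coe, orderOf_injective _ (Psi_injective hq hK), hord]
  · intro g hg
    have hcomm : Commute (g : GG) (Psi hq hK p₀) :=
      (congrArg Subtype.val (Subgroup.mem_centralizer_iff.1 hg e (Subgroup.mem_zpowers e))).symm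
    obtain ⟨p, hp⟩ := hlevi p₀ hord hγ hfs g g.2 hcomm
    have hc : Commute p p₀ := by
      rw [← hp] at hcomm
      refine Psi_injective hq hK ?_
      rw [map_mul, map_mul]
      exact hcomm.eq
    obtain ⟨y, hy⟩ := exists_mul_of_commute b hz p.1.2
      (show Commute p.1.2 (rhoU b z) from congrArg (fun x : ↥(Pp hq hK) => x.1.2) hc.eq)
    obtain ⟨n, hn⟩ := hmem p.1.1 y (by rw [hy]; exact p.2)
    refine ⟨n, Subtype.ext ?_⟩
    show ((e ^ n : ↥(SS).fix) : GG) = g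
    rw [Subgroup.coe_zpow, ← hp, ← map_zpow]
    congr 1
    refine (show p₀ ^ n = _ from hn).trans (Subtype.ext (Prod.ext rfl hy))
  · exact Subgroup.le_centralizer _

/-- The case `q ≥ 3`. -/
theorem exists_torus_large (h3 : 3 ≤ q) :
    ∃ H : Subgroup ↥(SS).fix, IsCyclic ↥H ∧ Nat.card ↥H = (q ^ 3 - 1) * (q + 1) ∧
      Subgroup.centralizer (H : Set ↥(SS).fix) = H := by
  refine exists_of_levi hq hK fun p₀ _ _ hfs g hg hc => ?_
  obtain ⟨s, hs⟩ := IsCyclic.exists_ofOrder_eq_natCard (α := Kˣ)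
  obtain ⟨n, hn⟩ := hfs s
  refine levi_generic hq hK hs h3 hg ?_
  rw [← show Psi hq hK p₀ ^ n = _ from hn]
  exact (hc.zpow_right n).symm

end CfsgLib.D4Torus
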