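import Cfsg.Agent.Lib.KnownB.D4Torus.Weyl
import Cfsg.Agent.Lib.Chevalley.Basic
import Cfsg.Agent.Lib.Chevalley.Twist.G2Invol

/-!
The Levi subgroup of the central orbit of ³D₄(q) as the image of the pairs `(c, M)` with `det M = N c`.
-/

set_option autoImplicit false
set_option maxRecDepth 20000
set_option Elab.async false

namespace CfsgLib.D4Torus

open CfsgLib.Chevalley CfsgLib.Chevalley.Tbl Matrix
open CfsgLib.Chevalley.Twist.G2 (ly sl2_mem hom_dh hom_wn)

local notation "T₄" => Data.D4.tbl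

variable {K : Type*} [Field K] [Finite K] {q : ℕ} (hq : IsPrimePow q) (hK : Nat.card K = q ^ 3)

local notation "σ" => Twist.D4.fq hq hK
local notation "SS" => AbSetup.S (Twist.D4.setup hq hK)
local notation "GG" => GL Data.D4.tbl.I K

/-- The field with `q` elements. -/
noncomputable def kF : Subfield K := (σ).toRingHom.eqLocusField (RingHom.id K)

theorem mem_kF {t : K} : t ∈ kF hq hK ↔ t ^ q = t := by
  show σ t = t ↔ _
  rw [Twist.D4.fq_apply]

theorem card_kF : Nat.card ↥(kF hq hK) = q := by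
  have h2 : 2 ≤ q := hq.two_le
  rw [show Nat.card ↥(kF hq hK) = Nat.card {t : K // t ^ q = t} from
    Nat.card_congr (Equiv.subtypeEquivRight fun t => mem_kF hq hK), Twist.card_pow_eq_self h2]
  rw [hK]
  exact Nat.sub_one_dvd_pow_sub_one q 3

omit hq hK [Finite K] in
/-- The norm to the field with `q` elements. -/
def Nm (q : ℕ) : Kˣ →* Kˣ where
  toFun c := c * c ^ q * (c ^ q) ^ q
  map_one' := by simp
  map_mul' a b := by simp only [mul_pow]; ac_rfl

include hq hK in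
theorem Nm_fix (c : Kˣ) : Nm q c ^ q = Nm q c := by
  show (c * c ^ q * (c ^ q) ^ q) ^ q = c * c ^ q * (c ^ q) ^ q
  simp only [mul_pow]
  rw [Twist.D4.units_pow_cube hq hK c]
  ac_rfl

theorem Nm_mem (c : Kˣ) : ((Nm q c : Kˣ) : K) ∈ kF hq hK := by
  rw [mem_kF, ← Units.val_pow_eq_pow_val, Nm_fix hq hK]

/-- The norm as a unit of the small field. -/
noncomputable def NmF : Kˣ →* (↥(kF hq hK))ˣ where
  toFun c := Units.mk0 ⟨((Nm q c : Kˣ) : K), Nm_mem hq hK c⟩ fun h => (Nm q c).ne_zero (congrArg Subtype.val h)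
  map_one' := Units.ext (Subtype.ext (by simp))
  map_mul' a b := Units.ext (Subtype.ext (by simp))

/-- A unit of the small field as a unit. -/
noncomputable abbrev uK : (↥(kF hq hK))ˣ →* Kˣ := Units.map (kF hq hK).subtype.toMonoidHom

theorem uK_NmF (c : Kˣ) : uK hq hK (NmF hq hK c) = Nm q c := Units.ext rfl

omit hq hK [Finite K] in
/-- The torus parameter. -/
def fT (q : ℕ) (c d : Kˣ) : Fin (Data.D4.tbl).rank → Kˣ :=
  fun i => if i.val = 0 then c else if i.val = 1 then d else if i.val = 2 then c ^ q else (c ^ q) ^ q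

theorem fT_mul (c c' d d' : Kˣ) : fT q c d * fT q c' d' = fT q (c * c') (d * d') := by
  funext i
  simp only [Pi.mul_apply, fT]
  split_ifs <;> simp [mul_pow]

theorem fT_one : fT q (1 : Kˣ) 1 = 1 := by
  funext i
  simp [fT]

include hq hK in
theorem fT_fix {c d : Kˣ} (hd : d ^ q = d) : fT q c d ∈ (Twist.D4.setup hq hK).D.tauFix :=
  (Twist.D4.mem_tauFix hq hK).mpr ⟨hd, rfl, rfl⟩

theorem tCh_fT (c d : Kˣ) (r : ℕ) : CoxeterTorus.tCh T₄ (fT q c d) r =
    c ^ (T₄).ca 0 r * d ^ (T₄).ca 1 r * (c ^ q) ^ (T₄).ca 2 r * ((c ^ q) ^ q) ^ (T₄).ca 3 r := by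
  show (∏ i : Fin 4, fT q c d i ^ (T₄).ca i r) = _
  rw [Fin.prod_univ_four]
  rfl

theorem tCh_14 (c : Kˣ) : CoxeterTorus.tCh T₄ (fT q c (Nm q c)) 14 = Nm q c := by
  rw [tCh_fT, show (T₄).ca 0 14 = -1 by decide +kernel, show (T₄).ca 1 14 = 2 by decide +kernel,
    show (T₄).ca 2 14 = -1 by decide +kernel, show (T₄).ca 3 14 = -1 by decide +kernel]
  show c ^ (-1 : ℤ) * (c * c ^ q * (c ^ q) ^ q) ^ (2 : ℤ) * (c ^ q) ^ (-1 : ℤ) * ((c ^ q) ^ q) ^ (-1 : ℤ) =
    c * c ^ q * (c ^ q) ^ q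
  generalize c ^ q = e
  generalize e ^ q = e'
  simp only [_root_.zpow_neg, zpow_one, zpow_two]
  apply Units.ext
  push_cast [Units.val_inv_eq_inv_val]
  field_simp

/-- The parameter concentrated at the central node. -/
def s1 (u : Kˣ) : Fin (Data.D4.tbl).rank → Kˣ :=
  fun i => Pi.mulSingle (M := fun _ : Fin 4 => Kˣ) (1 : Fin 4) u i

theorem lt14 : 14 < (Data.D4.tbl).n := by decide

theorem lt9 : 9 < (Data.D4.tbl).n := by decide

/-- The homomorphism of the central root. -/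
noncomputable def φ : SpecialLinearGroup (Fin 2) ↥(kF hq hK) →* GG :=
  ((Tbl.sl2Data (F := K) Data.D4.valid lt14).hom).comp (SpecialLinearGroup.map (kF hq hK).subtype)

theorem φ_ux (t : ↥(kF hq hK)) : φ hq hK (SL2.ux t) = (T₄).xU K 14 (t : K) := by
  show (Tbl.sl2Data (F := K) Data.D4.valid lt14).hom _ = _
  refine (SL2.Data.hom_upper _ _ (t : K) ?_).trans rfl
  ext i j; fin_cases i <;> fin_cases j <;> rfl

theorem φ_ly (t : ↥(kF hq hK)) : φ hq hK (ly t) = (T₄).xU K 9 (t : K) := by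
  show (Tbl.sl2Data (F := K) Data.D4.valid lt14).hom _ = _
  refine (SL2.Data.hom_lower _ _ (t : K) ?_).trans ?_
  · ext i j; fin_cases i <;> fin_cases j <;> rfl
  · show (T₄).xU K ((T₄).neg 14) (t : K) = _
    rw [show (T₄).neg 14 = 9 by decide +kernel]

theorem φ_dh (a : (↥(kF hq hK))ˣ) : φ hq hK (SL2.dh a) =
    torusHom T₄ K (s1 (uK hq hK a)) := by
  refine Eq.trans ?_ (torusHom_single Data.D4.valid (1 : Fin 4) _).symm
  have e : SpecialLinearGroup.map (kF hq hK).subtype (SL2.dh a) = SL2.dh (uK hq hK a) := by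
    refine Subtype.ext ?_
    ext i j; fin_cases i <;> fin_cases j <;> simp [SL2.dh, SpecialLinearGroup.map] <;> rfl
  show (Tbl.sl2Data (F := K) Data.D4.valid lt14).hom _ = _
  rw [e, hom_dh]
  rfl

theorem φ_wn : φ hq hK SL2.wn = (T₄).nU K 14 1 := by
  have e : SpecialLinearGroup.map (kF hq hK).subtype (SL2.wn : SpecialLinearGroup (Fin 2) ↥(kF hq hK)) =
      SL2.wn := by
    refine Subtype.ext ?_
    ext i j; fin_cases i <;> fin_cases j <;> simp [SL2.wn, SpecialLinearGroup.map] <;> rfl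
  show (Tbl.sl2Data (F := K) Data.D4.valid lt14).hom _ = _
  rw [e, hom_wn]
  rfl

theorem graph_facts : ∀ r ∈ [9, 14], Data.D4.graph.ρ r = r ∧ Data.D4.graph.ε r = 1 ∧ Data.D4.graph.lam r = 1 := by
  decide +kernel

theorem sg_central {r : ℕ} (hr : r ∈ [9, 14]) (t : K) : (SS).sg ((T₄).xU K r t) = (T₄).xU K r (σ t) := by
  have hlt : r < (T₄).n := by
    simp only [List.mem_cons, List.not_mem_nil, or_false] at hr
    rcases hr with rfl | rfl
    · exact lt9
    · exact lt14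
  refine ((Twist.D4.setup hq hK).D.sg_x hlt t).trans ?_
  show (T₄).xU K (Data.D4.graph.ρ r) (Data.D4.graph.par r (σ t)) = _
  obtain ⟨h1, h2, h3⟩ := graph_facts r hr
  rw [RootMap.par, h3, pow_one, h2, h1]
  simp

theorem φ_mem (s : SpecialLinearGroup (Fin 2) ↥(kF hq hK)) : φ hq hK s ∈ (SS).fix := by
  refine sl2_mem (Subgroup.comap (φ hq hK) (SS).fix) (fun t => ?_) (fun t => ?_) s
  · show φ hq hK (SL2.ux t) ∈ (SS).fix
    rw [φ_ux]
    refine ⟨xU_mem_group Data.D4.valid lt14 _, ?_⟩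
    rw [sg_central hq hK (by simp)]
    exact congrArg _ (show σ (t : K) = t from t.2)
  · show φ hq hK (ly t) ∈ (SS).fix
    rw [φ_ly]
    refine ⟨xU_mem_group Data.D4.valid lt9 _, ?_⟩
    rw [sg_central hq hK (by simp)]
    exact congrArg _ (show σ (t : K) = t from t.2)

theorem sl_ext {k : Type*} [Field k] {A B : SpecialLinearGroup (Fin 2) k} (h : ∀ i j, A.1 i j = B.1 i j) :
    A = B := Subtype.ext (Matrix.ext h)

omit hq hK [Finite K] in
/-- The matrix of the conjugation by `diag(u⁻¹, 1)`. -/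
def twM {k : Type*} [Field k] (u : kˣ) (A : Matrix (Fin 2) (Fin 2) k) : Matrix (Fin 2) (Fin 2) k :=
  !![A 0 0, (u : k)⁻¹ * A 0 1; (u : k) * A 1 0, A 1 1]

theorem twM_mul {k : Type*} [Field k] (u : kˣ) (A B : Matrix (Fin 2) (Fin 2) k) :
    twM u (A * B) = twM u A * twM u B := by
  ext i j
  fin_cases i <;> fin_cases j <;> simp [twM, Matrix.mul_apply, Fin.sum_univ_two] <;> field_simp

omit hq hK [Finite K] in
/-- Conjugation of `SL₂` by the diagonal element `diag(u⁻¹, 1)`. -/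
def twist2 {k : Type*} [Field k] (u : kˣ) : SpecialLinearGroup (Fin 2) k →* SpecialLinearGroup (Fin 2) k :=
  MonoidHom.mk' (fun s => ⟨twM u s.1, by
    have h := s.2
    rw [Matrix.det_fin_two] at h
    rw [twM, Matrix.det_fin_two_of]
    field_simp
    linear_combination h⟩) fun a b => Subtype.ext (twM_mul u a.1 b.1)

theorem twist2_val {k : Type*} [Field k] (u : kˣ) (s : SpecialLinearGroup (Fin 2) k) :
    (twist2 u s).1 = twM u s.1 := rfl

/-- The torus part. -/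
noncomputable def tPart (c : Kˣ) : GG := torusHom T₄ K (fT q c (Nm q c))

theorem tPart_mul (c c' : Kˣ) : tPart (q := q) (c * c') = tPart (q := q) c * tPart (q := q) c' := by
  rw [tPart, tPart, tPart, ← map_mul, fT_mul, map_mul]

theorem tPart_mem (c : Kˣ) : tPart (q := q) c ∈ (SS).fix := by
  have h : torusHom T₄ K (fT q c (Nm q c)) ∈ Data.D4.tbl.datum.diagonalSubgroup K ⊓ (SS).fix := by
    rw [Twist.D4.diag_fix hq hK]
    exact ⟨_, fT_fix hq hK (Nm_fix hq hK c), rfl⟩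
  exact h.2

theorem tCh_9 (c : Kˣ) : CoxeterTorus.tCh T₄ (fT q c (Nm q c)) 9 = (Nm q c)⁻¹ := by
  rw [tCh_fT, show (T₄).ca 0 9 = 1 by decide +kernel, show (T₄).ca 1 9 = -2 by decide +kernel,
    show (T₄).ca 2 9 = 1 by decide +kernel, show (T₄).ca 3 9 = 1 by decide +kernel]
  show c ^ (1 : ℤ) * (c * c ^ q * (c ^ q) ^ q) ^ (-2 : ℤ) * (c ^ q) ^ (1 : ℤ) * ((c ^ q) ^ q) ^ (1 : ℤ) =
    (c * c ^ q * (c ^ q) ^ q)⁻¹
  generalize c ^ q = e
  generalize e ^ q = e'
  simp only [_root_.zpow_neg, zpow_one, zpow_two]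
  apply Units.ext
  push_cast [Units.val_inv_eq_inv_val]
  field_simp

theorem φ_tPart (c : Kˣ) (s : SpecialLinearGroup (Fin 2) ↥(kF hq hK)) :
    φ hq hK s * tPart (q := q) c = tPart (q := q) c * φ hq hK (twist2 (NmF hq hK c) s) := by
  let f : SpecialLinearGroup (Fin 2) ↥(kF hq hK) →* GG :=
    (MulAut.conj (tPart (q := q) c)⁻¹).toMonoidHom.comp (φ hq hK)
  let g : SpecialLinearGroup (Fin 2) ↥(kF hq hK) →* GG := (φ hq hK).comp (twist2 (NmF hq hK c))
  suffices h : f s = g s by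
    have h' : (tPart (q := q) c)⁻¹ * φ hq hK s * ((tPart (q := q) c)⁻¹)⁻¹ = φ hq hK (twist2 (NmF hq hK c) s) := h
    rw [← h', inv_inv]
    group
  refine sl2_mem (MonoidHom.eqLocus f g) (fun t => ?_) (fun t => ?_) s
  · show (tPart (q := q) c)⁻¹ * φ hq hK (SL2.ux t) * ((tPart (q := q) c)⁻¹)⁻¹ = φ hq hK (twist2 (NmF hq hK c) (SL2.ux t))
    have e : twist2 (NmF hq hK c) (SL2.ux t) = SL2.ux ((NmF hq hK c : ↥(kF hq hK))⁻¹ * t) := by
      refine sl_ext fun i j => ?_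
      change twM (NmF hq hK c) !![(1 : ↥(kF hq hK)), t; 0, 1] i j =
        (!![(1 : ↥(kF hq hK)), (NmF hq hK c : ↥(kF hq hK))⁻¹ * t; 0, 1] : Matrix (Fin 2) (Fin 2) ↥(kF hq hK)) i j
      fin_cases i <;> fin_cases j <;> simp [twM]
    rw [e, φ_ux, φ_ux, inv_inv, mul_assoc, inv_mul_eq_iff_eq_mul, tPart]
    refine Eq.trans ?_ (CoxeterTorus.torus_xU Data.D4.valid (fT q c (Nm q c)) ⟨14, lt14⟩ _).symm
    show _ = (T₄).xU K 14 ((CoxeterTorus.tCh T₄ (fT q c (Nm q c)) 14 : K) * _) * _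
    rw [tCh_14]
    congr 2
    show (t : K) = (Nm q c : K) * (((Nm q c : K))⁻¹ * (t : K))
    rw [mul_inv_cancel_left₀ (Nm q c).ne_zero]
  · show (tPart (q := q) c)⁻¹ * φ hq hK (ly t) * ((tPart (q := q) c)⁻¹)⁻¹ = φ hq hK (twist2 (NmF hq hK c) (ly t))
    have e : twist2 (NmF hq hK c) (ly t) = ly ((NmF hq hK c : ↥(kF hq hK)) * t) := by
      refine sl_ext fun i j => ?_
      change twM (NmF hq hK c) !![(1 : ↥(kF hq hK)), 0; t, 1] i j =
        (!![(1 : ↥(kF hq hK)), 0; (NmF hq hK c : ↥(kF hq hK)) * t, 1] : Matrix (Fin 2) (Fin 2) ↥(kF hq hK)) i j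
      fin_cases i <;> fin_cases j <;> simp [twM]
    rw [e, φ_ly, φ_ly, inv_inv, mul_assoc, inv_mul_eq_iff_eq_mul, tPart]
    refine Eq.trans ?_ (CoxeterTorus.torus_xU Data.D4.valid (fT q c (Nm q c)) ⟨9, lt9⟩ _).symm
    show _ = (T₄).xU K 9 ((CoxeterTorus.tCh T₄ (fT q c (Nm q c)) 9 : K) * _) * _
    rw [tCh_9]
    congr 2
    show (t : K) = ((Nm q c)⁻¹ : Kˣ) * ((Nm q c : K) * (t : K))
    rw [Units.inv_mul_cancel_left]

/-- The pairs `(c, M)` with `det M = N c`. -/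
noncomputable def Pp : Subgroup (Kˣ × GL (Fin 2) ↥(kF hq hK)) :=
  MonoidHom.eqLocus ((GeneralLinearGroup.det).comp (MonoidHom.snd Kˣ (GL (Fin 2) ↥(kF hq hK))))
    ((NmF hq hK).comp (MonoidHom.fst Kˣ (GL (Fin 2) ↥(kF hq hK))))

theorem det_eq (p : ↥(Pp hq hK)) : (p.1.2 : Matrix (Fin 2) (Fin 2) ↥(kF hq hK)).det = (NmF hq hK p.1.1 : ↥(kF hq hK)) :=
  congrArg Units.val (p.2 : GeneralLinearGroup.det p.1.2 = NmF hq hK p.1.1)

omit hq hK [Finite K] in
/-- The matrix `diag(u⁻¹, 1) M`. -/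
def sM {k : Type*} [Field k] (u : kˣ) (M : Matrix (Fin 2) (Fin 2) k) : Matrix (Fin 2) (Fin 2) k :=
  !![(u : k)⁻¹ * M 0 0, (u : k)⁻¹ * M 0 1; M 1 0, M 1 1]

theorem sM_mul {k : Type*} [Field k] (u v : kˣ) (A B : Matrix (Fin 2) (Fin 2) k) :
    sM (u * v) (A * B) = twM v (sM u A) * sM v B := by
  ext i j
  fin_cases i <;> fin_cases j <;> simp [sM, twM, Matrix.mul_apply, Fin.sum_univ_two] <;> field_simp

omit hq hK [Finite K] in
/-- `diag(u⁻¹, 1) M` for a matrix of determinant `u`. -/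
def sPart {k : Type*} [Field k] (u : kˣ) (M : Matrix (Fin 2) (Fin 2) k) (h : M.det = u) :
    SpecialLinearGroup (Fin 2) k :=
  ⟨sM u M, by
    rw [Matrix.det_fin_two] at h
    rw [sM, Matrix.det_fin_two_of]
    field_simp
    linear_combination h⟩

/-- The homomorphism onto the Levi subgroup. -/
noncomputable def Psi : ↥(Pp hq hK) →* GG :=
  MonoidHom.mk' (fun p => tPart (q := q) p.1.1 * φ hq hK (sPart (NmF hq hK p.1.1) _ (det_eq hq hK p)))
    fun p p' => by
      rw [mul_assoc (tPart (q := q) p.1.1), ← mul_assoc (φ hq hK _) (tPart (q := q) p'.1.1), φ_tPart,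
        mul_assoc (tPart (q := q) p'.1.1), ← map_mul, ← mul_assoc, ← tPart_mul]
      congr 2
      refine sl_ext fun i j => ?_
      change sM (NmF hq hK (p.1.1 * p'.1.1)) ((p.1.2 : Matrix (Fin 2) (Fin 2) ↥(kF hq hK)) * p'.1.2.1) i j =
        (twM (NmF hq hK p'.1.1) (sM (NmF hq hK p.1.1) p.1.2.1) * sM (NmF hq hK p'.1.1) p'.1.2.1) i j
      rw [map_mul, sM_mul]

theorem Psi_apply (p : ↥(Pp hq hK)) :
    Psi hq hK p = tPart (q := q) p.1.1 * φ hq hK (sPart (NmF hq hK p.1.1) _ (det_eq hq hK p)) := rfl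

theorem Psi_mem (p : ↥(Pp hq hK)) : Psi hq hK p ∈ (SS).fix :=
  mul_mem (tPart_mem hq hK _) (φ_mem hq hK _)

theorem φ_mem_range (s : SpecialLinearGroup (Fin 2) ↥(kF hq hK)) : φ hq hK s ∈ (Psi hq hK).range := by
  have hd : ((SpecialLinearGroup.toGL s : GL (Fin 2) ↥(kF hq hK))).det = NmF hq hK 1 := by
    rw [map_one]; exact Units.ext s.2
  refine ⟨⟨(1, SpecialLinearGroup.toGL s), hd⟩, ?_⟩
  rw [Psi_apply, tPart, show Nm q (1 : Kˣ) = 1 from map_one _, fT_one, map_one, one_mul]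
  congr 1
  refine Subtype.ext ?_
  ext i j; fin_cases i <;> fin_cases j <;> simp [sPart, sM]

theorem torus_mem_range {f : Fin (T₄).rank → Kˣ} (hf : f ∈ (Twist.D4.setup hq hK).D.tauFix) :
    torusHom T₄ K f ∈ (Psi hq hK).range := by
  obtain ⟨h1, h2, h3⟩ := (Twist.D4.mem_tauFix hq hK).mp hf
  set c := f (0 : Fin 4)
  set e : Kˣ := (Nm q c)⁻¹ * f (1 : Fin 4)
  have he : (e : K) ∈ kF hq hK := by
    rw [mem_kF, ← Units.val_pow_eq_pow_val, mul_pow, inv_pow, Nm_fix hq hK, h1]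
  let a : (↥(kF hq hK))ˣ := Units.mk0 ⟨(e : K), he⟩ fun h => e.ne_zero (congrArg Subtype.val h)
  have hdec : f = fT q c (Nm q c) * s1 (uK hq hK a) := by
    have ha : uK hq hK a = e := Units.ext rfl
    refine funext fun (i : Fin 4) => ?_
    show f i = fT q c (Nm q c) i * Pi.mulSingle (M := fun _ : Fin 4 => Kˣ) (1 : Fin 4) (uK hq hK a) i
    rw [ha]
    match i with
    | 0 => simp [fT, c]
    | 1 =>
      show _ = Nm q c * Pi.mulSingle (M := fun _ : Fin 4 => Kˣ) (1 : Fin 4) e 1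
      rw [Pi.mulSingle_eq_same, mul_inv_cancel_left]
    | 2 => simp [fT, h2, c]
    | 3 => simp [fT, h3, c]
  rw [hdec, map_mul, ← φ_dh hq hK a]
  refine mul_mem ?_ (φ_mem_range hq hK _)
  let M : GL (Fin 2) ↥(kF hq hK) := Matrix.GeneralLinearGroup.mkOfDetNeZero
    !![((NmF hq hK c : (↥(kF hq hK))ˣ) : ↥(kF hq hK)), 0; 0, 1] (by simp [Matrix.det_fin_two_of])
  refine ⟨⟨(c, M), Units.ext (by
    show Matrix.det (M : Matrix (Fin 2) (Fin 2) ↥(kF hq hK)) = (NmF hq hK c : ↥(kF hq hK))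
    simp [M, Matrix.det_fin_two_of])⟩, ?_⟩
  rw [Psi_apply]
  have e1 : sPart (NmF hq hK c) (M : Matrix (Fin 2) (Fin 2) ↥(kF hq hK)) (by simp [M, Matrix.det_fin_two_of]) = 1 := by
    refine sl_ext fun i j => ?_
    fin_cases i <;> fin_cases j <;> simp [sPart, sM, M]
  show tPart (q := q) c * φ hq hK (sPart (NmF hq hK c) (M : Matrix (Fin 2) (Fin 2) ↥(kF hq hK)) _) = _
  rw [e1, map_one, mul_one]
  rfl

theorem big_cell {k : Type*} [Field k] (s : SpecialLinearGroup (Fin 2) k) (hc : s.1 1 0 ≠ 0) :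
    s = SL2.ux (s.1 0 0 / s.1 1 0) * (SL2.dh (-(Units.mk0 _ hc)⁻¹) * (SL2.wn * SL2.ux (s.1 1 1 / s.1 1 0))) := by
  refine Subtype.ext ?_
  have hdet := s.2
  rw [Matrix.det_fin_two] at hdet
  rw [SL2.val_ux_mul, SL2.val_dh_mul, SL2.val_wn_mul]
  ext i j
  fin_cases i <;> fin_cases j <;> simp [SL2.ux] <;> field_simp
  linear_combination -hdet

theorem diag_φ {s : SpecialLinearGroup (Fin 2) ↥(kF hq hK)}
    (h : φ hq hK s ∈ Data.D4.tbl.datum.diagonalSubgroup K) : ∃ a, s = SL2.dh a := by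
  have hd : ∀ a, φ hq hK (SL2.dh a) ∈ Data.D4.tbl.datum.diagonalSubgroup K := fun a => by
    rw [φ_dh, ← torusHom_range Data.D4.valid]; exact ⟨_, rfl⟩
  have hpos : ∀ t, φ hq hK (SL2.ux t) ∈ Data.D4.tbl.datum.posUnipotent K := fun t => by
    rw [φ_ux, posUnipotent_rootGen Data.D4.valid]
    exact xU_mem_rootGen lt14 (show (T₄).half ≤ 14 by decide) _
  by_cases hc : s.1 1 0 = 0
  · have ha : s.1 0 0 ≠ 0 := fun h' => by
      have := s.2
      rw [Matrix.det_fin_two, h', hc] at this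
      simp at this
    have e : s = SL2.dh (Units.mk0 _ ha) * SL2.ux (s.1 0 1 / s.1 0 0) := by
      refine Subtype.ext ?_
      have h11 : s.1 1 1 = (s.1 0 0)⁻¹ := by
        have := s.2
        rw [Matrix.det_fin_two, hc, mul_zero, sub_zero] at this
        exact eq_inv_of_mul_eq_one_right this
      rw [SL2.val_dh_mul]
      ext i j; fin_cases i <;> fin_cases j <;> simp [SL2.ux, hc, h11, mul_div_cancel₀ _ ha]
    have h2 : φ hq hK (SL2.ux (s.1 0 1 / s.1 0 0)) ∈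
        Data.D4.tbl.datum.posUnipotent K ⊓ Data.D4.tbl.datum.diagonalSubgroup K := by
      refine ⟨hpos _, ?_⟩
      rw [e, map_mul] at h
      exact ((Data.D4.tbl.datum.diagonalSubgroup K).mul_mem_cancel_left (hd _)).1 h
    rw [pos_inf_diag Data.D4.valid, Subgroup.mem_bot, φ_ux] at h2
    have h3 : ((s.1 0 1 / s.1 0 0 : ↥(kF hq hK)) : K) = 0 :=
      xU_inj Data.D4.valid lt14 (h2.trans (xU_zero Data.D4.valid lt14).symm)
    refine ⟨Units.mk0 _ ha, e.trans ?_⟩
    rw [show s.1 0 1 / s.1 0 0 = 0 from Subtype.ext h3]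
    refine mul_eq_left.2 (Subtype.ext ?_)
    ext i j; fin_cases i <;> fin_cases j <;> simp [SL2.ux]
  · exfalso
    set x := s.1 0 0 / s.1 1 0
    set y := s.1 1 1 / s.1 1 0
    have e : s = SL2.ux x * (SL2.dh (-(Units.mk0 _ hc)⁻¹) * (SL2.wn * SL2.ux y)) := by
      exact big_cell s hc
    have hu : φ hq hK (SL2.ux y) ∈ (T₄).rootGen K ((T₄).negSet ((T₄).refP Data.D4.valid (1 : Fin 4))) := by
      rw [φ_ux]
      exact xU_mem_rootGen lt14 ⟨lt14, show (T₄).half ≤ 14 by decide,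
        show (T₄).refl 1 14 < (T₄).half by decide +kernel⟩ _
    have hb : φ hq hK (SL2.ux x * SL2.dh (-(Units.mk0 _ hc)⁻¹)) ∈ Data.D4.tbl.datum.borelSubgroup K := by
      rw [map_mul]
      exact mul_mem (Subgroup.mem_sup_left (hpos _)) (Subgroup.mem_sup_right (hd _))
    have hnm : (T₄).Mono (φ hq hK SL2.wn) ((T₄).refP Data.D4.valid (1 : Fin 4)) := by
      rw [φ_wn]
      exact mono_nU_simple Data.D4.valid (1 : Fin 4)
    have hnN : φ hq hK SL2.wn ∈ Data.D4.tbl.datum.monomialSubgroup K := by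
      rw [φ_wn]
      exact (SS).nU_mem_N ⟨14, lt14⟩ one_ne_zero
    have he : φ hq hK (SL2.ux x * SL2.dh (-(Units.mk0 _ hc)⁻¹)) * φ hq hK SL2.wn * φ hq hK (SL2.ux y) =
        φ hq hK s * 1 * 1 := by
      rw [mul_one, mul_one, ← map_mul, ← map_mul, mul_assoc, mul_assoc]
      exact congrArg _ e.symm
    obtain ⟨hd1, -⟩ := canonical_unique Data.D4.valid Data.D4.chkComm hb
      (Subgroup.mem_sup_right h) hnN (one_mem _) hnm hu (w' := 1) (one_mem _) he
    rw [mul_one] at hd1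
    have h1 : (T₄).refP Data.D4.valid (1 : Fin 4) = 1 :=
      hnm.unique (by simpa using mono_diag Data.D4.valid (inv_mem hd1))
    exact absurd (congrArg (fun w : Equiv.Perm (Fin (T₄).n) => (w ⟨14, lt14⟩).val) h1)
      (show (T₄).refl 1 14 ≠ 14 by decide +kernel)

theorem Psi_injective : Function.Injective (Psi hq hK) := by
  refine (injective_iff_map_eq_one _).2 fun p hp => ?_
  rw [Psi_apply] at hp
  set c := p.1.1
  set s := sPart (NmF hq hK c) _ (det_eq hq hK p)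
  have hdiag : φ hq hK s ∈ Data.D4.tbl.datum.diagonalSubgroup K := by
    rw [eq_inv_of_mul_eq_one_right hp, ← torusHom_range Data.D4.valid, tPart, ← map_inv]
    exact ⟨_, rfl⟩
  obtain ⟨a, ha⟩ := diag_φ hq hK hdiag
  rw [ha, φ_dh, tPart, ← map_mul, torusHom_eq_one_iff Data.D4.valid] at hp
  set u := uK hq hK a
  have hj : ∀ j : Fin 4, ∀ z : Fin 4 → Kˣ, z = fT q c (Nm q c) * s1 u →
      z 0 ^ (T₄).ca 0 ((T₄).simple j.val) * z 1 ^ (T₄).ca 1 ((T₄).simple j.val) *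
      z 2 ^ (T₄).ca 2 ((T₄).simple j.val) * z 3 ^ (T₄).ca 3 ((T₄).simple j.val) = 1 := by
    intro j z hz
    subst hz
    have := hp j
    exact ((Fin.prod_univ_four (f := fun i : Fin 4 =>
      (fT q c (Nm q c) * s1 u) i ^ (T₄).ca i.val ((T₄).simple j.val))).symm.trans this)
  set d : Kˣ := Nm q c * u with hd
  have hz : (fT q c (Nm q c) * s1 u : Fin 4 → Kˣ) = ![c, d, c ^ q, (c ^ q) ^ q] := by
    refine funext fun (i : Fin 4) => ?_
    show fT q c (Nm q c) i * Pi.mulSingle (M := fun _ : Fin 4 => Kˣ) (1 : Fin 4) u i = _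
    fin_cases i <;> simp [fT, d]
  have e0 := hj 0 _ rfl
  have e1 := hj 1 _ rfl
  have e2 := hj 2 _ rfl
  rw [hz] at e0 e1 e2
  rw [show (T₄).ca 0 ((T₄).simple ((0 : Fin 4) : ℕ)) = 2 by decide +kernel,
    show (T₄).ca 1 ((T₄).simple ((0 : Fin 4) : ℕ)) = -1 by decide +kernel,
    show (T₄).ca 2 ((T₄).simple ((0 : Fin 4) : ℕ)) = 0 by decide +kernel,
    show (T₄).ca 3 ((T₄).simple ((0 : Fin 4) : ℕ)) = 0 by decide +kernel] at e0
  rw [show (T₄).ca 0 ((T₄).simple ((1 : Fin 4) : ℕ)) = -1 by decide +kernel,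
    show (T₄).ca 1 ((T₄).simple ((1 : Fin 4) : ℕ)) = 2 by decide +kernel,
    show (T₄).ca 2 ((T₄).simple ((1 : Fin 4) : ℕ)) = -1 by decide +kernel,
    show (T₄).ca 3 ((T₄).simple ((1 : Fin 4) : ℕ)) = -1 by decide +kernel] at e1
  rw [show (T₄).ca 0 ((T₄).simple ((2 : Fin 4) : ℕ)) = 0 by decide +kernel,
    show (T₄).ca 1 ((T₄).simple ((2 : Fin 4) : ℕ)) = -1 by decide +kernel,
    show (T₄).ca 2 ((T₄).simple ((2 : Fin 4) : ℕ)) = 2 by decide +kernel,
    show (T₄).ca 3 ((T₄).simple ((2 : Fin 4) : ℕ)) = 0 by decide +kernel] at e2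
  simp only [Matrix.cons_val_zero, Matrix.cons_val_one, Matrix.cons_val, _root_.zpow_neg, zpow_one, zpow_zero,
    zpow_two, mul_one, one_mul] at e0 e1 e2
  set C : K := (c : K)
  set Q : K := (c : K) ^ q with hQ
  set R : K := ((c : K) ^ q) ^ q with hR
  have f0 : C * C = (d : K) := by
    have h := congrArg (fun z : Kˣ => (z : K)) e0
    push_cast at h
    field_simp at h
    linear_combination h
  have f1 : (d : K) * d = C * Q * R := by
    have h := congrArg (fun z : Kˣ => (z : K)) e1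
    push_cast at h
    field_simp at h
    linear_combination h
  have f2 : Q * Q = (d : K) := by
    have h := congrArg (fun z : Kˣ => (z : K)) e2
    push_cast at h
    field_simp at h
    linear_combination h
  have hC0 : C ≠ 0 := c.ne_zero
  have hpm : Q = C ∨ Q = -C := mul_self_eq_mul_self_iff.1 (f2.trans f0.symm)
  have hpowneg : ∀ z : K, (-z) ^ q = -z ^ q := fun z => by
    rw [← Twist.D4.fq_apply hq hK, ← Twist.D4.fq_apply hq hK, map_neg]
  have hC1 : C = 1 ∨ C = -1 := by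
    rcases hpm with hc | hc
    · have hR' : R = C := by rw [hR, ← hQ, hc]; exact hQ.symm.trans hc
      rw [hR', hc, ← f0] at f1
      exact Or.inl (mul_left_cancel₀ (mul_ne_zero (mul_ne_zero hC0 hC0) hC0) (by linear_combination f1))
    · have hR' : R = C := by rw [hR, ← hQ, hc, hpowneg]; rw [show C ^ q = Q from rfl, hc, neg_neg]
      rw [hR', hc, ← f0] at f1
      exact Or.inr (mul_left_cancel₀ (mul_ne_zero (mul_ne_zero hC0 hC0) hC0) (by linear_combination f1))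
  have hCone : C = 1 := by
    rcases hC1 with h | h
    · exact h
    · have hQ' : Q = -1 := by rw [hQ, show (c : K) = -1 from h, hpowneg, one_pow]
      have hR' : R = -1 := by rw [hR, ← hQ, hQ', hpowneg, one_pow]
      rw [hR', hQ', ← f0, h] at f1
      linear_combination h - f1
  have hc1 : c = 1 := Units.ext hCone
  have hd1 : d = 1 := Units.ext (by rw [← f0, hCone]; simp)
  have hu : u = 1 := by rw [hd, hc1, map_one, one_mul] at hd1; exact hd1
  have ha1 : a = 1 := Units.ext (Subtype.ext (congrArg (fun z : Kˣ => (z : K)) hu))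
  have hs : s.1 = 1 := by
    rw [ha, ha1]
    ext i j; fin_cases i <;> fin_cases j <;> simp [SL2.dh]
  have hN : ((NmF hq hK c : (↥(kF hq hK))ˣ) : ↥(kF hq hK)) = 1 := by rw [hc1, map_one, Units.val_one]
  refine Subtype.ext (Prod.ext hc1 (Units.ext ?_))
  show (p.1.2 : Matrix (Fin 2) (Fin 2) ↥(kF hq hK)) = 1
  rw [← hs]
  show _ = !![_, _; _, _]
  rw [hN]
  ext i j; fin_cases i <;> fin_cases j <;> simp

end CfsgLib.D4Torus
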