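import Cfsg.Agent.Lib.KnownB.D4Torus.Levi

/-!
The cyclic torus of order (q³ − 1)(q + 1) of ³D₄(q) and the centraliser of it in the Levi subgroup.
-/

set_option autoImplicit false
set_option maxRecDepth 20000
set_option Elab.async false

namespace CfsgLib.D4Torus

open CfsgLib.Chevalley CfsgLib.Chevalley.Tbl Matrix

local notation "T₄" => Data.D4.tbl

/-- A generator over a prescribed generator of the image. -/
theorem exists_gen_map {G A : Type*} [CommGroup G] [CommGroup A] [Finite G] [IsCyclic G] (φ : G →* A)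
    (hφ : Function.Surjective φ) (a : A) (ha : orderOf a = Nat.card A) :
    ∃ g : G, orderOf g = Nat.card G ∧ φ g = a := by
  obtain ⟨g0, hg0⟩ := IsCyclic.exists_ofOrder_eq_natCard (α := G)
  have : Finite A := Finite.of_surjective φ hφ
  have hdvd : Nat.card A ∣ Nat.card G := Subgroup.card_dvd_of_surjective φ hφ
  have hgen : ∀ x : G, x ∈ Submonoid.powers g0 := fun x => by
    refine mem_powers_iff_mem_zpowers.2 ?_
    rw [Subgroup.eq_top_of_card_eq (Subgroup.zpowers g0) (by rw [Nat.card_zpowers, hg0])]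
    trivial
  obtain ⟨x, rfl⟩ := hφ a
  obtain ⟨j, rfl⟩ := hgen x
  have hm : orderOf (φ g0) = Nat.card A := by
    refine dvd_antisymm (orderOf_dvd_natCard _) ?_
    rw [← ha, map_pow]
    exact orderOf_pow_dvd j
  have hj : Nat.Coprime j (Nat.card A) := by
    rw [map_pow, orderOf_pow, hm] at ha
    have hpos : 0 < Nat.card A := Nat.card_pos
    rcases Nat.eq_zero_or_pos j with rfl | hj0
    · rw [Nat.gcd_zero_right, Nat.div_self hpos] at ha
      rw [← ha]; exact Nat.coprime_one_right _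
    · have := Nat.div_eq_self.1 ha
      rcases this with h | h
      · omega
      · exact Nat.Coprime.symm h
  haveI : NeZero (Nat.card G) := ⟨Nat.card_pos.ne'⟩
  obtain ⟨w, hw⟩ := ZMod.unitsMap_surjective hdvd (ZMod.unitOfCoprime j hj)
  refine ⟨g0 ^ (w : ZMod (Nat.card G)).val, ?_, ?_⟩
  · rw [orderOf_pow, hg0, Nat.Coprime.gcd_eq_one (Nat.Coprime.symm (ZMod.val_coe_unit_coprime w)), Nat.div_one]
  · rw [map_pow, map_pow, pow_eq_pow_iff_modEq, hm, ← ZMod.natCast_eq_natCast_iff]
    have h := congrArg (fun u : (ZMod (Nat.card A))ˣ => (u : ZMod (Nat.card A))) hw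
    simp only [ZMod.unitsMap_val, ZMod.coe_unitOfCoprime] at h
    rw [← h, ZMod.natCast_val]

/-- Norm surjectivity onto the fixed field. -/
theorem norm_fixed_surj {K : Type*} [Field K] [Finite K] {q N : ℕ} (hq : 1 ≤ q)
    (hN : N * (q - 1) = Nat.card K - 1) {t : K} (ht : t ≠ 0) (hfix : t ^ q = t) :
    ∃ c : Kˣ, ((c ^ N : Kˣ) : K) = t := by
  rcases Nat.eq_zero_or_pos (q - 1) with h | h
  · exact absurd hN (by rw [h, mul_zero]; have := Finite.one_lt_card (α := K); omega)
  obtain ⟨γ, hγ⟩ := IsCyclic.exists_monoid_generator (α := Kˣ)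
  have hord : orderOf γ = Nat.card K - 1 := by
    rw [← Nat.card_units]
    exact orderOf_eq_card_of_forall_mem_zpowers fun x => by
      obtain ⟨l, hl⟩ := hγ x; exact ⟨(l : ℤ), by simpa using hl⟩
  obtain ⟨l, hl⟩ := hγ (Units.mk0 t ht)
  have hl' : (γ ^ l : Kˣ) = Units.mk0 t ht := hl
  have hu : (Units.mk0 t ht) ^ (q - 1) = 1 := Units.ext (by
    rw [Units.val_pow_eq_pow_val, Units.val_mk0, Units.val_one]
    refine mul_left_cancel₀ ht ?_
    rw [mul_one, ← pow_succ', Nat.sub_add_cancel hq, hfix])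
  rw [← hl', ← pow_mul, ← orderOf_dvd_iff_pow_eq_one, hord, ← hN] at hu
  obtain ⟨e, rfl⟩ := Nat.dvd_of_mul_dvd_mul_right h hu
  exact ⟨γ ^ e, by rw [← pow_mul, mul_comm e, hl', Units.val_mk0]⟩

variable {K : Type*} [Field K] [Finite K] {q : ℕ} (hq : IsPrimePow q) (hK : Nat.card K = q ^ 3)

local notation "SS" => AbSetup.S (Twist.D4.setup hq hK)
local notation "GG" => GL Data.D4.tbl.I K

theorem NmF_surjective : Function.Surjective (NmF hq hK) := by
  intro u
  have h1 : 1 ≤ q := Twist.D4.one_le hq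
  have hN : (1 + q + q * q) * (q - 1) = Nat.card K - 1 := by
    rw [hK]
    obtain ⟨m, rfl⟩ := Nat.exists_eq_add_of_le' h1
    simp only [Nat.add_sub_cancel]
    have : (m + 1) ^ 3 = (1 + (m + 1) + (m + 1) * (m + 1)) * m + 1 := by ring
    omega
  have hfix : ((u : ↥(kF hq hK)) : K) ^ q = u := (mem_kF hq hK).1 (u : ↥(kF hq hK)).2
  obtain ⟨c, hc⟩ := norm_fixed_surj h1 hN (t := ((u : ↥(kF hq hK)) : K))
    (fun h => u.ne_zero (Subtype.ext h)) hfix
  refine ⟨c, Units.ext (Subtype.ext ?_)⟩
  rw [← hc]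
  show ((c * c ^ q * (c ^ q) ^ q : Kˣ) : K) = _
  congr 1
  rw [pow_add, pow_add, pow_one, pow_mul]

omit hq hK [Finite K] in
/-- The regular representation on units. -/
noncomputable def rhoU {k L : Type*} [Field k] [Field L] [Algebra k L] (b : Module.Basis (Fin 2) k L) :
    Lˣ →* GL (Fin 2) k := Units.map (Algebra.leftMulMatrix b).toRingHom.toMonoidHom

theorem rhoU_val {k L : Type*} [Field k] [Field L] [Algebra k L] (b : Module.Basis (Fin 2) k L) (z : Lˣ) :
    (rhoU b z : Matrix (Fin 2) (Fin 2) k) = Algebra.leftMulMatrix b (z : L) := rfl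

theorem rhoU_det {k L : Type*} [Field k] [Field L] [Algebra k L] (b : Module.Basis (Fin 2) k L) (z : Lˣ) :
    GeneralLinearGroup.det (rhoU b z) = Units.map (Algebra.norm k) z :=
  Units.ext (Algebra.norm_eq_matrix_det b (z : L)).symm

/-- A matrix commuting with the regular representation of a generator is a multiplication. -/
theorem exists_mul_of_commute {k L : Type*} [Field k] [Field L] [Finite L] [Algebra k L]
    (b : Module.Basis (Fin 2) k L) {z : Lˣ} (hz : orderOf z = Nat.card Lˣ) (M : GL (Fin 2) k)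
    (h : Commute M (rhoU b z)) : ∃ y : Lˣ, rhoU b y = M := by
  let f : L →ₗ[k] L := Matrix.toLin b b (M : Matrix (Fin 2) (Fin 2) k)
  have hM : LinearMap.toMatrix b b f = (M : Matrix (Fin 2) (Fin 2) k) := LinearMap.toMatrix_toLin _ _ _
  have hall : ∀ x : L, f x = f 1 * x := by
    have hgen : Subgroup.zpowers z = ⊤ := Subgroup.eq_top_of_card_eq _ (by rw [Nat.card_zpowers, hz])
    intro x
    rcases eq_or_ne x 0 with rfl | hx
    · simp
    obtain ⟨n, hn⟩ : Units.mk0 x hx ∈ Subgroup.zpowers z := hgen ▸ Subgroup.mem_top _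
    have hc : Commute M (rhoU b (Units.mk0 x hx)) := by
      rw [← show z ^ n = Units.mk0 x hx from hn, map_zpow]
      exact h.zpow_right n
    have e := congrArg (fun g : GL (Fin 2) k => Matrix.toLin b b (g : Matrix (Fin 2) (Fin 2) k) 1) hc.eq
    simp only [Units.val_mul, rhoU_val, Units.val_mk0, Matrix.toLin_mul b b b, LinearMap.comp_apply,
      Algebra.leftMulMatrix_apply, Matrix.toLin_toMatrix, Algebra.coe_lmul_eq_mul, LinearMap.mul_apply',
      mul_one] at e
    rw [show f x = Matrix.toLin b b (M : Matrix (Fin 2) (Fin 2) k) x from rfl, e, mul_comm]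
  have h0 : f 1 ≠ 0 := by
    intro h0
    have hf : f = 0 := LinearMap.ext fun x => by rw [hall, h0, zero_mul, LinearMap.zero_apply]
    rw [hf, map_zero] at hM
    exact M.ne_zero hM.symm
  refine ⟨Units.mk0 _ h0, Units.ext ?_⟩
  rw [rhoU_val, ← hM, Algebra.leftMulMatrix_apply]
  exact congrArg _ (LinearMap.ext fun x => (hall x).symm)

end CfsgLib.D4Torus
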