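import Cfsg.Agent.Lib.KnownB.D4Torus.Main

/-!
The self-centralising cyclic subgroup of order 21 of ³D₄(2).
-/

set_option autoImplicit false
set_option maxRecDepth 20000
set_option Elab.async false

namespace CfsgLib.D4Torus

open CfsgLib.Chevalley CfsgLib.Chevalley.Tbl Matrix
open CfsgLib.Chevalley.Twist.G2 (ly)

local notation "T₄" => Data.D4.tbl

/-- Three roots with the same value. -/
def three : Fin 3 → ℕ := ![6, 18, 19]

theorem three_lt : ∀ i, three i < (Data.D4.tbl).n := by decide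

/-- The index of a root among the three. -/
def idx3 (i : Fin 3) : (Data.D4.tbl).I := Sum.inr ⟨three i, three_lt i⟩

theorem idx3_injective : Function.Injective idx3 := by
  intro i j h
  have h' := congrArg Fin.val (Sum.inr.inj h)
  revert i j
  decide

/-- The matrices of the four root elements on the three roots, to first order. -/
def root3 (r : ℕ) : Fin 3 → Fin 3 → ℤ :=
  if r = 14 then ![![0, 0, 0], ![0, 0, 0], ![0, 1, 0]]
  else if r = 22 then ![![0, 0, 0], ![-1, 0, 0], ![0, 0, 0]]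
  else if r = 23 then ![![0, 0, 0], ![0, 0, 0], ![-1, 0, 0]]
  else ![![0, 0, 0], ![0, 0, 1], ![0, 0, 0]]

theorem root3_facts : ∀ r ∈ [9, 14, 22, 23], ∀ i j : Fin 3,
    Data.D4.tbl.colA r 1 (idx3 j) (idx3 i) = root3 r i j ∧ Data.D4.tbl.colA r 2 (idx3 j) (idx3 i) = 0 ∧
      Data.D4.tbl.colA r 3 (idx3 j) (idx3 i) = 0 := by
  decide +kernel

theorem value18 : ¬ expo 2 18 % 7 = 0 := by decide +kernel

theorem six_choices : ∀ a ∈ cls2 0, ∀ b ∈ cls2 1, ∀ c ∈ cls2 2, ∀ d ∈ cls2 3, extends4 a b c d = true →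
    (∀ j < 4, imgCo (fun k => if k = 0 then a else if k = 1 then b else if k = 2 then c else d) 6 j =
      Data.D4.tbl.co 6 j) →
    [a, b, c, d] = [18, 14, 13, 12] ∨ [a, b, c, d] = [19, 9, 16, 15] := by
  decide +kernel

theorem stab_six {w : Equiv.Perm (Fin (T₄).n)} (hw : w ∈ (T₄).WP Data.D4.valid)
    (h : ∀ i : Fin 4, (w ((T₄).simpF Data.D4.valid i)).val ∈ cls2 i.val)
    (h6 : w ⟨6, three_lt 0⟩ = ⟨6, three_lt 0⟩) :
    w = 1 ∨ w = (T₄).refP Data.D4.valid (1 : Fin 4) := by
  let p : Fin 4 → ℕ := fun i => (w ((T₄).simpF Data.D4.valid i)).val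
  have hco : ∀ s (hs : s < 24) j, j < 4 → (T₄).co (w ⟨s, hs⟩).val j =
      imgCo (fun k => if k = 0 then p 0 else if k = 1 then p 1 else if k = 2 then p 2 else p 3) s j := by
    intro s hs j hj
    rw [wp_co hw ⟨s, hs⟩ hj]
    simp only [imgCo, show List.range 4 = [0, 1, 2, 3] from rfl, List.map_cons, List.map_nil]
    rfl
  have he : extends4 (p 0) (p 1) (p 2) (p 3) = true := by
    simp only [extends4, List.all_eq_true, List.any_eq_true, List.mem_range]
    intro s hs
    refine ⟨(w ⟨s, hs⟩).val, (w ⟨s, hs⟩).2, fun j hj => ?_⟩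
    rw [beq_iff_eq, hco s hs j hj]
  have hsix : ∀ j < 4, imgCo (fun k => if k = 0 then p 0 else if k = 1 then p 1 else if k = 2 then p 2 else p 3) 6 j =
      (T₄).co 6 j := fun j hj => by
    rw [← hco 6 (three_lt 0) j hj]
    exact congrArg (fun x : Fin (T₄).n => (T₄).co x.val j) h6
  refine stab_cases hw fun i => ?_
  show p i ∈ cls i.val
  rcases six_choices _ (h 0) _ (h 1) _ (h 2) _ (h 3) he hsix with e | e <;>
    simp only [List.cons.injEq, and_true] at e <;> fin_cases i <;> simp [p, cls, e.1, e.2.1, e.2.2.1, e.2.2.2]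

variable {K : Type*} [Field K] [Finite K] (hq : IsPrimePow 2) (hK : Nat.card K = 2 ^ 3)

local notation "SS" => AbSetup.S (Twist.D4.setup hq hK)
local notation "GG" => GL Data.D4.tbl.I K

include hK in
theorem two_eq_zero : (2 : K) = 0 := by
  have := Fintype.ofFinite K
  have h := FiniteField.cast_card_eq_zero K
  rw [← Nat.card_eq_fintype_card, hK] at h
  push_cast at h
  exact eq_zero_of_pow_eq_zero (show (2 : K) ^ 3 = 0 by rw [← h]; norm_num)

include hK in
theorem neg_eq' (x : K) : -x = x := by linear_combination -x * two_eq_zero hK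

theorem kF_two (t : ↥(kF hq hK)) : t = 0 ∨ t = 1 := by
  have h : (t : K) ^ 2 = t := (mem_kF hq hK).1 t.2
  rcases mul_eq_zero.1 (show (t : K) * ((t : K) - 1) = 0 by linear_combination h) with h | h
  · exact Or.inl (Subtype.ext h)
  · exact Or.inr (Subtype.ext (sub_eq_zero.1 h))

/-- The restriction to the three roots. -/
def rho3 (g : GG) : Matrix (Fin 3) (Fin 3) K := (g : Matrix (T₄).I (T₄).I K).submatrix idx3 idx3

theorem rho3_one : rho3 (1 : GG) = 1 := by
  ext i j
  show (1 : Matrix (T₄).I (T₄).I K) (idx3 i) (idx3 j) = _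
  simp [Matrix.one_apply, idx3_injective.eq_iff]

include hK in
theorem rho3_mul {s : Kˣ} (hs : orderOf s = Nat.card Kˣ) (g : GG) {h : GG}
    (hh : torusHom T₄ K (fs 2 s) * h = h * torusHom T₄ K (fs 2 s)) : rho3 (g * h) = rho3 g * rho3 h := by
  classical
  set κ : (T₄).I → Kˣ := fun x => Sum.elim (fun _ => 1) (fun r => CoxeterTorus.tCh T₄ (fs 2 s) r.val) x
  have hval : ((torusHom T₄ K (fs 2 s) : GG) : Matrix (T₄).I (T₄).I K) = Matrix.diagonal fun x => (κ x : K) := by
    show ((T₄).dU _ : GG).val = _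
    rw [dU_val]
    congr 1
  have hzero : ∀ x y, κ x ≠ κ y → (h : Matrix (T₄).I (T₄).I K) x y = 0 := by
    intro x y hne
    have e := congrArg (fun m : GG => (m : Matrix (T₄).I (T₄).I K) x y) hh
    simp only [Units.val_mul, hval, Matrix.diagonal_mul, Matrix.mul_diagonal] at e
    by_contra h0
    exact hne (Units.ext (mul_left_cancel₀ h0 (by rw [mul_comm]; exact e)))
  ext i j
  show ((g * h : GG) : Matrix (T₄).I (T₄).I K) (idx3 i) (idx3 j) = _
  rw [Units.val_mul, Matrix.mul_apply, Matrix.mul_apply]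
  refine (Finset.sum_subset (Finset.subset_univ (Finset.univ.image idx3)) fun x _ hx => ?_).symm.trans ?_
  · rw [hzero x (idx3 j) ?_, mul_zero]
    intro hκ
    have hN : orderOf s = 7 := by rw [hs, Nat.card_units, hK]; norm_num
    have hcls : ∀ k : Fin 3, (expo 2 (three k) - expo 2 18) % 7 = 0 := by decide +kernel
    cases x with
    | inl a =>
      have h1 : (1 : Kˣ) = s ^ expo 2 (three j) := hκ.trans (tCh_fs s _)
      rw [eq_comm, ← orderOf_dvd_iff_zpow_eq_one, hN] at h1
      exact value18 (by have := hcls j; omega)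
    | inr r =>
      have h1 : s ^ expo 2 r.val = s ^ expo 2 (three j) := (tCh_fs s _).symm.trans (hκ.trans (tCh_fs s _))
      rw [zpow_eq_zpow_iff_modEq, hN] at h1
      have h2 : (expo 2 r.val - expo 2 (simp4 0)) % 7 = 0 := by
        rw [show simp4 0 = 18 by decide +kernel]
        have := hcls j
        unfold Int.ModEq at h1
        push_cast at h1
        omega
      have h3 := class_two r.val r.2 0 (by norm_num) h2
      refine hx (Finset.mem_image.2 ?_)
      simp only [cls2, if_true, List.mem_cons, List.not_mem_nil, or_false] at h3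
      rcases h3 with e | e | e
      · exact ⟨0, Finset.mem_univ _, congrArg Sum.inr (Fin.ext e.symm)⟩
      · exact ⟨1, Finset.mem_univ _, congrArg Sum.inr (Fin.ext e.symm)⟩
      · exact ⟨2, Finset.mem_univ _, congrArg Sum.inr (Fin.ext e.symm)⟩
  · rw [Finset.sum_image fun a _ b _ e => idx3_injective e]
    rfl

include hK in
theorem rho3_xU {r : ℕ} (hr : r ∈ [9, 14, 22, 23]) (t : K) :
    rho3 ((T₄).xU K r t) = 1 + Matrix.of fun i j => t * (root3 r i j : K) := by
  have hlt : r < (T₄).n := by revert hr; revert r; decide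
  ext i j
  show ((T₄).xU K r t : GG).val (idx3 i) (idx3 j) = _
  obtain ⟨h1, h2, h3⟩ := root3_facts r hr i j
  rw [xU_val Data.D4.valid hlt, X_apply, show Finset.Ico 1 4 = {1, 2, 3} from rfl, Finset.sum_insert (by decide),
    Finset.sum_insert (by decide), Finset.sum_singleton, h1, h2, h3]
  simp [Matrix.one_apply, idx3_injective.eq_iff]

/-- The lower unitriangular form of the positive fixed-value elements. -/
def low3 (p r v : K) : Matrix (Fin 3) (Fin 3) K := !![1, 0, 0; r, 1, 0; v, p, 1]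

include hK in
theorem pos_two {s : Kˣ} (hs : orderOf s = Nat.card Kˣ) {u : GG}
    (hu : u ∈ (T₄).rootGen K (fun r => (T₄).half ≤ r))
    (hc : torusHom T₄ K (fs 2 s) * u = u * torusHom T₄ K (fs 2 s)) :
    ∃ p r v : K, u = (T₄).xU K 14 p * (T₄).xU K 22 r * (T₄).xU K 23 v ∧
      rho3 u = low3 p r (v + p * r) := by
  obtain ⟨a, rfl, ha⟩ := unip_coeff hu hc
  have hN : orderOf s = 7 := by rw [hs, Nat.card_units, hK]; norm_num
  have hz : ∀ r, 12 ≤ r → r < 24 → r ∉ [14, 22, 23] → a r = 0 := fun r h1 h2 hne => ha r h1 h2 fun h => by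
    rw [tCh_fs, ← orderOf_dvd_iff_zpow_eq_one, hN] at h
    have h3 := class_two r h2 1 (by norm_num) (by
      rw [show simp4 1 = 14 by decide +kernel, expo_central]
      omega)
    simp [cls2] at h3
    simp at hne
    omega
  have hn : (T₄).n = 24 := by decide
  have e : (T₄).uProd a 12 12 = (T₄).xU K 14 (a 14) * (T₄).xU K 22 (a 22) * (T₄).xU K 23 (a 23) := by
    simp only [uProd, show List.range' 12 12 = [12, 13, 14, 15, 16, 17, 18, 19, 20, 21, 22, 23] from rfl,
      List.map_cons, List.map_nil, List.prod_cons, List.prod_nil]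
    simp only [hz 12 (by norm_num) (by norm_num) (by simp), hz 13 (by norm_num) (by norm_num) (by simp),
      hz 15 (by norm_num) (by norm_num) (by simp), hz 16 (by norm_num) (by norm_num) (by simp),
      hz 17 (by norm_num) (by norm_num) (by simp), hz 18 (by norm_num) (by norm_num) (by simp),
      hz 19 (by norm_num) (by norm_num) (by simp), hz 20 (by norm_num) (by norm_num) (by simp),
      hz 21 (by norm_num) (by norm_num) (by simp), Nat.reduceLT, xU_zero Data.D4.valid, hn, one_mul, mul_one,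
      mul_assoc]
  refine ⟨a 14, a 22, a 23, e, ?_⟩
  have hC : ∀ r ∈ [22, 23], ∀ t : K,
      torusHom T₄ K (fs 2 s) * (T₄).xU K r t = (T₄).xU K r t * torusHom T₄ K (fs 2 s) := by
    intro r hr t
    have hlt : r < (T₄).n := by revert hr; revert r; decide
    have hx : (expo 2 r) % 7 = 0 := by revert hr; revert r; decide +kernel
    rw [CoxeterTorus.torus_xU Data.D4.valid _ ⟨r, hlt⟩, tCh_fs,
      orderOf_dvd_iff_zpow_eq_one.1 (by rw [hN]; exact Int.dvd_of_emod_eq_zero hx), Units.val_one, one_mul]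
  rw [e, rho3_mul hK hs _ (hC 23 (by simp) _), rho3_mul hK hs _ (hC 22 (by simp) _), rho3_xU hK (by simp),
    rho3_xU hK (by simp), rho3_xU hK (by simp)]
  ext i j
  fin_cases i <;> fin_cases j <;>
    simp [low3, root3, Matrix.mul_apply, Fin.sum_univ_three, neg_eq' hK]
  ring

/-- The element of order three. -/
noncomputable def h3e : GG := φ hq hK (SL2.ux 1 * ly 1)

theorem rho3_h3e {s : Kˣ} (hs : orderOf s = Nat.card Kˣ) :
    rho3 (h3e hq hK) = !![1, 0, 0; 0, 1, 1; 0, 1, 0] := by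
  rw [h3e, map_mul, φ_ux, φ_ly]
  have hN : orderOf s = 7 := by rw [hs, Nat.card_units, hK]; norm_num
  have hc : torusHom T₄ K (fs 2 s) * (T₄).xU K 9 ((1 : ↥(kF hq hK)) : K) =
      (T₄).xU K 9 ((1 : ↥(kF hq hK)) : K) * torusHom T₄ K (fs 2 s) := by
    rw [CoxeterTorus.torus_xU Data.D4.valid _ ⟨9, lt9⟩, tCh_fs,
      orderOf_dvd_iff_zpow_eq_one.1 (show (orderOf s : ℤ) ∣ expo 2 9 by rw [hN]; decide +kernel), Units.val_one,
      one_mul]
  rw [rho3_mul hK hs _ hc, rho3_xU hK (by simp), rho3_xU hK (by simp)]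
  have h2 := two_eq_zero hK
  ext i j
  fin_cases i <;> fin_cases j <;> simp [root3, Matrix.mul_apply, Fin.sum_univ_three]
  linear_combination h2

/-- Commuting with `h3e` splits off the first coordinate. -/
theorem split_first {A : Matrix (Fin 3) (Fin 3) K}
    (h : A * !![1, 0, 0; 0, 1, 1; 0, 1, 0] = !![1, 0, 0; 0, 1, 1; 0, 1, 0] * A) :
    A 0 1 = 0 ∧ A 0 2 = 0 ∧ A 1 0 = 0 ∧ A 2 0 = 0 := by
  have e1 := congrFun (congrFun h 0) 1
  have e2 := congrFun (congrFun h 0) 2
  have e3 := congrFun (congrFun h 1) 0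
  have e4 := congrFun (congrFun h 2) 0
  simp [Matrix.mul_apply, Fin.sum_univ_three] at e1 e2 e3 e4
  refine ⟨?_, ?_, ?_, ?_⟩
  · linear_combination e2 + e1
  · linear_combination e1
  · linear_combination e3 - e4
  · linear_combination e3

theorem levi_two {s : Kˣ} (hs : orderOf s = Nat.card Kˣ) {g : GG} (hg : g ∈ (SS).fix)
    (h : torusHom T₄ K (fs 2 s) * g = g * torusHom T₄ K (fs 2 s)) (h3 : Commute g (h3e hq hK)) :
    g ∈ (Psi hq hK).range := by
  classical
  obtain ⟨a, ha, haf, n, hn, hnf, w, hw, hm, u, hu, huf, rfl, hca, hcu, hrel⟩ := decompose_fix hq hK hg h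
  obtain ⟨p, r, v, hae, ha3⟩ := pos_two hK hs ha hca
  obtain ⟨p', r', v', hue, hu3⟩ := pos_two hK hs (rootGen_mono (fun r _ h => h.2.1) hu) hcu
  have hcn : torusHom T₄ K (fs 2 s) * n = n * torusHom T₄ K (fs 2 s) :=
    ((CoxeterTorus.mono_rel Data.D4.valid hn hm _ _).2 hrel).symm
  have hch : torusHom T₄ K (fs 2 s) * h3e hq hK = h3e hq hK * torusHom T₄ K (fs 2 s) := by
    have hN : orderOf s = 7 := by rw [hs, Nat.card_units, hK]; norm_num
    have hx : ∀ r ∈ [9, 14], ∀ t : K,
        Commute (torusHom T₄ K (fs 2 s)) ((T₄).xU K r t) := by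
      intro r hr t
      have hlt : r < (T₄).n := by revert hr; revert r; decide
      have hx : (expo 2 r) % 7 = 0 := by revert hr; revert r; decide +kernel
      show _ = _
      rw [CoxeterTorus.torus_xU Data.D4.valid _ ⟨r, hlt⟩, tCh_fs,
        orderOf_dvd_iff_zpow_eq_one.1 (by rw [hN]; exact Int.dvd_of_emod_eq_zero hx), Units.val_one, one_mul]
    rw [h3e, map_mul, φ_ux, φ_ly]
    exact ((hx 14 (by simp) _).mul_right (hx 9 (by simp) _)).eq
  have hA : rho3 (a * n * u) = low3 p r (v + p * r) * rho3 n * low3 p' r' (v' + p' * r') := by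
    rw [rho3_mul hK hs _ hcu, rho3_mul hK hs _ hcn, ha3, hu3]
  have hcom : rho3 (a * n * u) * !![1, 0, 0; 0, 1, 1; 0, 1, 0] =
      !![1, 0, 0; 0, 1, 1; 0, 1, 0] * rho3 (a * n * u) := by
    rw [← rho3_h3e hq hK hs, ← rho3_mul hK hs _ hch, ← rho3_mul hK hs _ h, h3.eq]
  obtain ⟨z1, z2, z3, z4⟩ := split_first hcom
  rw [hA] at z1 z2 z3 z4
  have hN0 : ∀ i j : Fin 3, (⟨three i, three_lt i⟩ : Fin (T₄).n) ≠ w ⟨three j, three_lt j⟩ → rho3 n i j = 0 :=
    fun i j hne => hm.col ⟨three j, three_lt j⟩ (idx3 i) fun e => hne (Sum.inr.inj e)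
  have hninv : rho3 n * rho3 n⁻¹ = 1 := by
    have hc' : torusHom T₄ K (fs 2 s) * n⁻¹ = n⁻¹ * torusHom T₄ K (fs 2 s) :=
      (show Commute (torusHom T₄ K (fs 2 s)) n from hcn).inv_right.eq
    rw [← rho3_mul hK hs _ hc', mul_inv_cancel, rho3_one]
  simp [low3, Matrix.mul_apply, Matrix.vecMul, dotProduct, Fin.sum_univ_three] at z1 z2 z3 z4
  -- the first row
  have h02 : rho3 n 0 2 = 0 := z2
  have h01 : rho3 n 0 1 = 0 := by rw [h02] at z1; linear_combination z1
  have h00 : rho3 n 0 0 ≠ 0 := by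
    intro h0
    have e := congrFun (congrFun hninv 0) 0
    simp [Matrix.mul_apply, Fin.sum_univ_three, h0, h01, h02] at e
  have hw6 : w ⟨6, three_lt 0⟩ = ⟨6, three_lt 0⟩ := by
    by_contra hne
    exact h00 (hN0 0 0 fun e => hne e.symm)
  have hwP : w ∈ (T₄).WP Data.D4.valid := (Subgroup.mem_inf.1 hw).1
  have hsc : ∀ i : Fin 4, (w ((T₄).simpF Data.D4.valid i)).val ∈ cls2 i.val := fun i => by
    have e := hrel ((T₄).simpF Data.D4.valid i)
    rw [tCh_fs, tCh_fs, zpow_eq_zpow_iff_modEq, hs, Nat.card_units, hK] at e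
    refine class_two _ (w _).2 i.val i.2 ?_
    unfold Int.ModEq at e
    push_cast at e
    show (expo 2 _ - expo 2 ((T₄).simpF Data.D4.valid i).val) % 7 = 0
    omega
  have h10 : rho3 n 1 0 = 0 := hN0 1 0 (by rw [show (⟨three 0, three_lt 0⟩ : Fin (T₄).n) = ⟨6, three_lt 0⟩ from rfl, hw6]; decide)
  have h20 : rho3 n 2 0 = 0 := hN0 2 0 (by rw [show (⟨three 0, three_lt 0⟩ : Fin (T₄).n) = ⟨6, three_lt 0⟩ from rfl, hw6]; decide)
  simp only [h10, h20, h01, h02] at z3 z4
  have key : ∀ m ∈ (T₄).datum.monomialSubgroup K, m ∈ (SS).fix → (T₄).Mono m 1 → m ∈ (Psi hq hK).range := by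
    intro m hmN hmf hm1
    have : m ∈ (T₄).datum.diagonalSubgroup K ⊓ (SS).fix := ⟨mem_diag_of_mono_one Data.D4.valid hmN hm1, hmf⟩
    rw [Twist.D4.diag_fix hq hK] at this
    obtain ⟨f, hf, rfl⟩ := this
    exact torus_mem_range hq hK hf
  have key14 : ∀ x : GG, x ∈ (SS).fix → ∀ t : K, x = (T₄).xU K 14 t → x ∈ (Psi hq hK).range := by
    intro x hx t e
    subst e
    have h1 := hx.2
    rw [sg_central hq hK (by simp)] at h1
    have ht : t ∈ kF hq hK := xU_inj Data.D4.valid lt14 h1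
    rw [← φ_ux hq hK ⟨t, ht⟩]
    exact φ_mem_range hq hK _
  have hx0 : ∀ r, r < (T₄).n → (T₄).xU K r (0 : K) = 1 := fun r hr => xU_zero Data.D4.valid hr
  rcases stab_six hwP hsc hw6 with rfl | rfl
  · have hu1 : u = 1 := by
      have : u ∈ (⊥ : Subgroup GG) := by
        refine rootGen_le (fun r hr hneg t => ?_) hu
        obtain ⟨h', h1, h2⟩ := hneg
        simp only [Equiv.Perm.one_apply] at h2
        omega
      simpa using this
    have hu0 : p' = 0 ∧ r' = 0 ∧ v' + p' * r' = 0 := by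
      have e : low3 p' r' (v' + p' * r') = 1 := by rw [← hu3, hu1, rho3_one]
      exact ⟨by simpa [low3] using congrFun (congrFun e 2) 1, by simpa [low3] using congrFun (congrFun e 1) 0,
        by simpa [low3] using congrFun (congrFun e 2) 0⟩
    obtain ⟨e1, e2, e3⟩ := hu0
    subst e1 e2
    rw [e3] at z3 z4
    have h12 : rho3 n 2 1 = 0 := hN0 2 1 (by decide)
    have hr : r = 0 := by
      refine (mul_eq_zero.1 (?_ : r * rho3 n 0 0 = 0)).resolve_right h00
      linear_combination z3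
    have hv : v = 0 := by
      refine (mul_eq_zero.1 (?_ : v * rho3 n 0 0 = 0)).resolve_right h00
      rw [hr] at z4
      linear_combination z4
    subst hr hv
    rw [hu1, mul_one]
    refine mul_mem (key14 a haf p ?_) (key n hn hnf hm)
    rw [hae, hx0 22 (by decide), hx0 23 (by decide), mul_one, mul_one]
  · have hu14 : ∃ t, u = (T₄).xU K 14 t := by
      have hle : (T₄).rootGen K ((T₄).negSet ((T₄).refP Data.D4.valid (1 : Fin 4))) ≤
          (T₄).rootGen K (fun r => r = 14) := by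
        refine rootGen_mono fun r hr hneg => ?_
        obtain ⟨h', h1, h2⟩ := hneg
        replace h2 : (T₄).refl 1 r < (T₄).half := h2
        clear h'
        revert h1 h2
        revert r
        decide +kernel
      have := hle hu
      refine Subgroup.closure_induction (p := fun x _ => ∃ t, x = (T₄).xU K 14 t) ?_ ?_ ?_ ?_ this
      · rintro x ⟨r, -, rfl, t, rfl⟩; exact ⟨t, rfl⟩
      · exact ⟨0, (hx0 14 lt14).symm⟩
      · rintro x y - - ⟨t, rfl⟩ ⟨t', rfl⟩; exact ⟨t + t', xU_add Data.D4.valid lt14 t t'⟩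
      · rintro x - ⟨t, rfl⟩
        exact ⟨-t, inv_eq_of_mul_eq_one_right (by rw [xU_add Data.D4.valid lt14, add_neg_cancel, hx0 14 lt14])⟩
    obtain ⟨t, ht⟩ := hu14
    have hu0 : r' = 0 ∧ v' + p' * r' = 0 := by
      have e : low3 p' r' (v' + p' * r') = 1 + Matrix.of fun i j => t * (root3 14 i j : K) := by
        rw [← hu3, ht, rho3_xU hK (by simp)]
      exact ⟨by simpa [low3, root3] using congrFun (congrFun e 1) 0,
        by simpa [low3, root3] using congrFun (congrFun e 2) 0⟩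
    obtain ⟨e2, e3⟩ := hu0
    subst e2
    rw [e3] at z3 z4
    have hr : r = 0 := by
      refine (mul_eq_zero.1 (?_ : r * rho3 n 0 0 = 0)).resolve_right h00
      linear_combination z3
    have hv : v = 0 := by
      refine (mul_eq_zero.1 (?_ : v * rho3 n 0 0 = 0)).resolve_right h00
      rw [hr] at z4
      linear_combination z4
    subst hr hv
    refine mul_mem (mul_mem (key14 a haf p ?_) ?_) (key14 u huf t ht)
    · rw [hae, hx0 22 (by decide), hx0 23 (by decide), mul_one, mul_one]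
    have hnm : (T₄).Mono (φ hq hK SL2.wn) ((T₄).refP Data.D4.valid (1 : Fin 4)) := by
      rw [φ_wn]
      exact mono_nU_simple Data.D4.valid (1 : Fin 4)
    have hnN : φ hq hK SL2.wn ∈ (T₄).datum.monomialSubgroup K := by
      rw [φ_wn]
      exact (SS).nU_mem_N ⟨14, lt14⟩ one_ne_zero
    have h2 := key (n * (φ hq hK SL2.wn)⁻¹) (mul_mem hn (inv_mem hnN))
      (mul_mem hnf (inv_mem (φ_mem hq hK _))) (by simpa using hm.mul hnm.inv)
    have := mul_mem h2 (φ_mem_range hq hK SL2.wn)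
    rwa [inv_mul_cancel_right] at this

/-- The case `q = 2`. -/
theorem exists_torus_two :
    ∃ H : Subgroup ↥(SS).fix, IsCyclic ↥H ∧ Nat.card ↥H = (2 ^ 3 - 1) * (2 + 1) ∧
      Subgroup.centralizer (H : Set ↥(SS).fix) = H := by
  classical
  refine exists_of_levi hq hK fun p₀ hord hc1 hfs g hg hcomm => ?_
  obtain ⟨s, hs⟩ := IsCyclic.exists_ofOrder_eq_natCard (α := Kˣ)
  obtain ⟨n, hn⟩ := hfs s
  refine levi_two hq hK hs hg ?_ ?_
  · rw [← show Psi hq hK p₀ ^ n = _ from hn]
    exact (hcomm.zpow_right n).symm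
  have hKu : Nat.card Kˣ = 7 := by rw [Nat.card_units, hK]; norm_num
  have hord7 : orderOf (p₀ ^ 7) = 3 := by rw [orderOf_pow, hord]; norm_num
  have h7 : p₀.1.1 ^ 7 = 1 := by rw [← hKu, ← hc1]; exact pow_orderOf_eq_one _
  set M := (p₀ ^ 7 : ↥(Pp hq hK)).1.2
  have hfst : (p₀ ^ 7 : ↥(Pp hq hK)).1.1 = 1 := h7
  have hM3 : orderOf M = 3 := by
    have h1 := hord7
    rw [← Subgroup.orderOf_coe, Prod.orderOf, show (p₀ ^ 7 : ↥(Pp hq hK)).1.1 = 1 from hfst, orderOf_one,
      Nat.lcm_one_left] at h1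
    exact h1
  have hcases : (M : Matrix (Fin 2) (Fin 2) ↥(kF hq hK)) = !![0, 1; 1, 1] ∨
      (M : Matrix (Fin 2) (Fin 2) ↥(kF hq hK)) = !![1, 1; 1, 0] := by
    have h2 : (2 : ↥(kF hq hK)) = 0 := Subtype.ext (two_eq_zero hK)
    have hpow : (M : Matrix (Fin 2) (Fin 2) ↥(kF hq hK)) * M * M = 1 := by
      have := congrArg Units.val (show M ^ 3 = 1 by rw [← hM3, pow_orderOf_eq_one])
      simpa [pow_succ] using this
    have hne : (M : Matrix (Fin 2) (Fin 2) ↥(kF hq hK)) ≠ 1 := by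
      intro e
      rw [show M = 1 from Units.ext e, orderOf_one] at hM3
      norm_num at hM3
    rw [Matrix.eta_fin_two (M : Matrix (Fin 2) (Fin 2) ↥(kF hq hK))] at hpow hne ⊢
    rcases kF_two hq hK (M.1 0 0) with e | e <;> rcases kF_two hq hK (M.1 0 1) with e' | e' <;>
      rcases kF_two hq hK (M.1 1 0) with f | f <;> rcases kF_two hq hK (M.1 1 1) with f' | f' <;>
      rw [e, e', f, f'] at hpow hne ⊢ <;>
      first
      | exact Or.inl rfl
      | exact Or.inr rfl
      | (exfalso; simp [← Matrix.ext_iff, Fin.forall_fin_two, Matrix.mul_apply, Fin.sum_univ_two,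
          one_add_one_eq_two, h2] at hpow; done)
      | exact absurd (by ext i j; fin_cases i <;> fin_cases j <;> rfl) hne
  have hPsi : ∀ A : SpecialLinearGroup (Fin 2) ↥(kF hq hK),
      A.1 = (M : Matrix (Fin 2) (Fin 2) ↥(kF hq hK)) → Psi hq hK (p₀ ^ 7) = φ hq hK A := by
    intro A hA
    have ht : tPart (q := 2) (p₀ ^ 7 : ↥(Pp hq hK)).1.1 = 1 := by
      rw [tPart, hfst, show Nm 2 (1 : Kˣ) = 1 from map_one _, fT_one, map_one]
    rw [Psi_apply, ht, one_mul]
    congr 1
    refine Subtype.ext ?_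
    rw [hA]
    show sM (NmF hq hK _) (M : Matrix (Fin 2) (Fin 2) ↥(kF hq hK)) = _
    rw [hfst, map_one]
    ext i j; fin_cases i <;> fin_cases j <;> simp [sM]
  have h2 : (2 : ↥(kF hq hK)) = 0 := Subtype.ext (two_eq_zero hK)
  have hB : (SL2.ux (1 : ↥(kF hq hK)) * ly 1).1 = !![0, 1; 1, 1] := by
    show !![(1 : ↥(kF hq hK)), 1; 0, 1] * !![1, 0; 1, 1] = _
    ext i j; fin_cases i <;> fin_cases j <;> simp [Matrix.mul_apply, Fin.sum_univ_two, one_add_one_eq_two, h2]
  have hc7 : Commute g (Psi hq hK (p₀ ^ 7)) := by rw [map_pow]; exact hcomm.pow_right 7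
  rcases hcases with e | e
  · rwa [hPsi _ (hB.trans e.symm)] at hc7
  · have hinv : ((SL2.ux (1 : ↥(kF hq hK)) * ly 1) * (SL2.ux 1 * ly 1)).1 =
        (M : Matrix (Fin 2) (Fin 2) ↥(kF hq hK)) := by
      show (SL2.ux (1 : ↥(kF hq hK)) * ly (1 : ↥(kF hq hK))).1 * (SL2.ux (1 : ↥(kF hq hK)) * ly (1 : ↥(kF hq hK))).1 = _
      rw [hB, e]
      ext i j; fin_cases i <;> fin_cases j <;> simp [Matrix.mul_apply, Fin.sum_univ_two, one_add_one_eq_two, h2]
    rw [hPsi _ hinv, map_mul] at hc7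
    have h3 : h3e hq hK * h3e hq hK * h3e hq hK = 1 := by
      rw [h3e, ← map_mul, ← map_mul]
      refine (congrArg _ (Subtype.ext ?_)).trans (map_one _)
      show (SL2.ux (1 : ↥(kF hq hK)) * ly (1 : ↥(kF hq hK))).1 * (SL2.ux (1 : ↥(kF hq hK)) * ly (1 : ↥(kF hq hK))).1 *
        (SL2.ux (1 : ↥(kF hq hK)) * ly (1 : ↥(kF hq hK))).1 = (1 : Matrix (Fin 2) (Fin 2) ↥(kF hq hK))
      rw [hB]
      ext i j; fin_cases i <;> fin_cases j <;> simp [Matrix.mul_apply, Fin.sum_univ_two, one_add_one_eq_two, h2]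
    have : Commute g (h3e hq hK * h3e hq hK) := hc7
    have h4 : h3e hq hK = (h3e hq hK * h3e hq hK) * (h3e hq hK * h3e hq hK) := by
      rw [← mul_assoc, h3, one_mul]
    rw [h4]
    exact this.mul_right this

end CfsgLib.D4Torus
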