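import Cfsg.Agent.Lib.Chevalley.Twist.InstD4
import Cfsg.Agent.Lib.Chevalley.CoxeterTorus.Main

/-!
The values of the torus parameter `(s², N s, s^(2q), s^(2q²))` on the roots of `D₄` and the Weyl group elements
preserving them.
-/

set_option autoImplicit false
set_option maxRecDepth 20000

namespace CfsgLib.D4Torus

open CfsgLib.Chevalley CfsgLib.Chevalley.Tbl
open scoped Matrix

local notation "T₄" => Data.D4.tbl

/-- The exponent of `s ^ (q ^ k)` (`k < 3`) in the value at the root `r`. -/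
def dig (k r : ℕ) : ℤ := 2 * Data.D4.tbl.ca (if k = 0 then 0 else if k = 1 then 2 else 3) r + Data.D4.tbl.ca 1 r

/-- The exponent of `s` in the value at the root `r`. -/
def expo (q r : ℕ) : ℤ := dig 0 r + dig 1 r * q + dig 2 r * (q * q)

/-- The modulus. -/
def modN (q : ℕ) : ℤ := (q : ℤ) * q * q - 1

/-- The fundamental roots. -/
def simp4 (j : ℕ) : ℕ := Data.D4.tbl.simple j

/-- The roots with the same value as a fundamental root. -/
def cls (j : ℕ) : List ℕ :=
  if j = 0 then [18, 19] else if j = 1 then [9, 14] else if j = 2 then [13, 16] else [12, 15]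

theorem dig_facts : ∀ r < 24, ∀ j < 4,
    (|dig 0 r - dig 0 (simp4 j)| ≤ 6 ∧ |dig 1 r - dig 1 (simp4 j)| ≤ 6 ∧ |dig 2 r - dig 2 (simp4 j)| ≤ 6) ∧
    (dig 0 r = dig 0 (simp4 j) ∧ dig 1 r = dig 1 (simp4 j) ∧ dig 2 r = dig 2 (simp4 j) → r ∈ cls j) := by
  decide +kernel

theorem small_check : ((List.range 5).all fun d => (List.range 24).all fun r => (List.range 4).all fun j =>
    !((expo (d + 3) r - expo (d + 3) (simp4 j)) % modN (d + 3) == 0) || (cls j).contains r) = true := by
  decide +kernel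

theorem small_facts {d r j : ℕ} (hd : d < 5) (hr : r < 24) (hj : j < 4)
    (h : (expo (d + 3) r - expo (d + 3) (simp4 j)) % modN (d + 3) = 0) : r ∈ cls j := by
  have h1 := small_check
  simp only [List.all_eq_true, List.mem_range] at h1
  simpa [h] using h1 d hd r hr j hj

theorem digits_zero {q : ℕ} (hq : 8 ≤ q) {A B C : ℤ} (hA : |A| ≤ 6) (hB : |B| ≤ 6) (hC : |C| ≤ 6)
    (h : modN q ∣ A + B * q + C * (q * q)) : A = 0 ∧ B = 0 ∧ C = 0 := by
  simp only [modN] at h
  have hQ : 8 ≤ (q : ℤ) := by exact_mod_cast hq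
  generalize (q : ℤ) = Q' at h hQ
  rw [abs_le] at hA hB hC
  have h0 : A + B * Q' + C * (Q' * Q') = 0 := by
    refine Int.eq_zero_of_abs_lt_dvd h ?_
    rw [abs_lt]
    constructor <;> nlinarith [mul_le_mul hQ hQ (by norm_num) (by linarith)]
  have key : ∀ X Y : ℤ, -6 ≤ X → X ≤ 6 → X + Y * Q' = 0 → X = 0 ∧ Y = 0 := by
    intro X Y h1 h2 h3
    have hY : Y = 0 := by
      rcases lt_trichotomy Y 0 with hy | hy | hy
      · nlinarith
      · exact hy
      · nlinarith
    subst hY
    exact ⟨by simpa using h3, rfl⟩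
  obtain ⟨hA0, h1⟩ := key A (B + C * Q') hA.1 hA.2 (by linear_combination h0)
  obtain ⟨hB0, hC0⟩ := key B C hB.1 hB.2 h1
  exact ⟨hA0, hB0, hC0⟩

/-- For `q ≥ 3` the value of a fundamental root is taken at exactly two roots. -/
theorem class_of_dvd {q : ℕ} (hq : 3 ≤ q) {r j : ℕ} (hr : r < 24) (hj : j < 4)
    (h : modN q ∣ expo q r - expo q (simp4 j)) : r ∈ cls j := by
  rcases Nat.lt_or_ge q 8 with h8 | h8
  · obtain ⟨d, rfl⟩ := Nat.exists_eq_add_of_le' hq
    exact small_facts (by omega) hr hj (Int.emod_eq_zero_of_dvd h)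
  · obtain ⟨⟨a, b, c⟩, hcls⟩ := dig_facts r hr j hj
    obtain ⟨e0, e1, e2⟩ := digits_zero h8 a b c (by
      refine h.trans (dvd_of_eq ?_)
      simp only [expo]
      ring)
    exact hcls ⟨sub_eq_zero.1 e0, sub_eq_zero.1 e1, sub_eq_zero.1 e2⟩

/-- The image of the root `s` when the fundamental roots go to the given roots. -/
def imgCo (p : ℕ → ℕ) (s j : ℕ) : ℤ :=
  ((List.range 4).map fun k => Data.D4.tbl.co s k * Data.D4.tbl.co (p k) j).sum

/-- Whether a choice of images extends to the roots. -/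
def extends4 (a b c d : ℕ) : Bool :=
  (List.range 24).all fun s => (List.range 24).any fun r => (List.range 4).all fun j =>
    Data.D4.tbl.co r j == imgCo (fun k => if k = 0 then a else if k = 1 then b else if k = 2 then c else d) s j

theorem choices : ∀ a ∈ cls 0, ∀ b ∈ cls 1, ∀ c ∈ cls 2, ∀ d ∈ cls 3, extends4 a b c d = true →
    [a, b, c, d] = [18, 14, 13, 12] ∨ [a, b, c, d] = [19, 9, 16, 15] := by
  decide +kernel

/-- The roots with the same value as a fundamental root when `q = 2`. -/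
def cls2 (j : ℕ) : List ℕ :=
  if j = 0 then [6, 18, 19] else if j = 1 then [0, 1, 9, 14, 22, 23] else if j = 2 then [3, 13, 16] else [2, 12, 15]

theorem class_two : ∀ r < 24, ∀ j < 4, (expo 2 r - expo 2 (simp4 j)) % 7 = 0 → r ∈ cls2 j := by
  decide +kernel

theorem co_inj : ∀ r < 24, ∀ r' < 24, (∀ j < 4, Data.D4.tbl.co r j = Data.D4.tbl.co r' j) → r = r' := by
  decide +kernel

theorem co_simple : ∀ j < 4, ∀ k < 4, Data.D4.tbl.co (simp4 j) k = if k = j then 1 else 0 := by
  decide +kernel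

theorem refl_simple : [(T₄).refl 1 18, (T₄).refl 1 14, (T₄).refl 1 13, (T₄).refl 1 12] = [19, 9, 16, 15] ∧
    [simp4 0, simp4 1, simp4 2, simp4 3] = [18, 14, 13, 12] := by
  decide +kernel

/-- The index of a fundamental root. -/
def fidx (k : ℕ) : Fin (Data.D4.tbl).rank := ⟨k % 4, Nat.mod_lt k (by decide)⟩

theorem wp_co {w : Equiv.Perm (Fin (T₄).n)} (hw : w ∈ (T₄).WP Data.D4.valid) (s : Fin (T₄).n) {j : ℕ} (hj : j < 4) :
    (T₄).co (w s).val j = ((List.range 4).map fun k =>
      (T₄).co s.val k * (T₄).co (w ((T₄).simpF Data.D4.valid (fidx k))).val j).sum := by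
  have h := congrFun (CoxeterTorus.mat_mulVec Data.D4.valid hw s) (⟨j, hj⟩ : Fin 4)
  simp only at h
  rw [← h]
  simp only [Matrix.mulVec, dotProduct]
  show (∑ k : Fin 4, (T₄).co (w ((T₄).simpF Data.D4.valid k)).val j * (T₄).co s.val k.val) = _
  rw [Fin.sum_univ_four]
  simp only [show List.range 4 = [0, 1, 2, 3] from rfl, List.map_cons, List.map_nil, List.sum_cons, List.sum_nil,
    show fidx 0 = (0 : Fin 4) from rfl, show fidx 1 = (1 : Fin 4) from rfl,
    show fidx 2 = (2 : Fin 4) from rfl, show fidx 3 = (3 : Fin 4) from rfl]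
  have key : ∀ a b c d A B C D : ℤ, A * a + B * b + C * c + D * d = a * A + (b * B + (c * C + (d * D + 0))) :=
    fun _ _ _ _ _ _ _ _ => by ring
  exact key _ _ _ _ _ _ _ _

theorem wp_ext {w v : Equiv.Perm (Fin (T₄).n)} (hw : w ∈ (T₄).WP Data.D4.valid)
    (hv : v ∈ (T₄).WP Data.D4.valid)
    (h : ∀ i : Fin 4, w ((T₄).simpF Data.D4.valid i) = v ((T₄).simpF Data.D4.valid i)) : w = v := by
  refine Equiv.ext fun s => Fin.ext (co_inj _ (w s).2 _ (v s).2 fun j hj => ?_)
  rw [wp_co hw s hj, wp_co hv s hj]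
  refine congrArg List.sum (List.map_congr_left fun k _ => ?_)
  rw [h (fidx k)]

/-- A Weyl element sending each fundamental root into its class is `1` or the reflection of the central root. -/
theorem stab_cases {w : Equiv.Perm (Fin (T₄).n)} (hw : w ∈ (T₄).WP Data.D4.valid)
    (h : ∀ i : Fin 4, (w ((T₄).simpF Data.D4.valid i)).val ∈ cls i.val) :
    w = 1 ∨ w = (T₄).refP Data.D4.valid (1 : Fin 4) := by
  let p : Fin 4 → ℕ := fun i => (w ((T₄).simpF Data.D4.valid i)).val
  have he : extends4 (p 0) (p 1) (p 2) (p 3) = true := by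
    simp only [extends4, List.all_eq_true, List.any_eq_true, List.mem_range]
    intro s hs
    refine ⟨(w ⟨s, hs⟩).val, (w ⟨s, hs⟩).2, fun j hj => ?_⟩
    rw [beq_iff_eq, wp_co hw ⟨s, hs⟩ hj]
    simp only [imgCo, show List.range 4 = [0, 1, 2, 3] from rfl, List.map_cons, List.map_nil]
    rfl
  have hsimp : ∀ i : Fin 4, ((T₄).simpF Data.D4.valid i).val = simp4 i.val := fun i => rfl
  have hs1 := refl_simple.2
  simp only [List.cons.injEq, and_true] at hs1
  rcases choices _ (h 0) _ (h 1) _ (h 2) _ (h 3) he with e | e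
  · simp only [List.cons.injEq, and_true] at e
    refine Or.inl (wp_ext hw (one_mem _) fun i => Fin.ext ?_)
    show p i = ((T₄).simpF Data.D4.valid i).val
    rw [hsimp]
    fin_cases i
    · exact e.1.trans hs1.1.symm
    · exact e.2.1.trans hs1.2.1.symm
    · exact e.2.2.1.trans hs1.2.2.1.symm
    · exact e.2.2.2.trans hs1.2.2.2.symm
  · simp only [List.cons.injEq, and_true] at e
    refine Or.inr (wp_ext hw (Subgroup.subset_closure ⟨_, rfl⟩) fun i => Fin.ext ?_)
    refine Eq.trans ?_ (refP_apply Data.D4.valid (1 : Fin 4) ((T₄).simpF Data.D4.valid i)).symm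
    show p i = (T₄).refl 1 (simp4 i.val)
    have hr := refl_simple.1
    simp only [List.cons.injEq, and_true] at hr
    fin_cases i
    · show p 0 = (T₄).refl 1 (simp4 0)
      rw [hs1.1]; exact e.1.trans hr.1.symm
    · show p 1 = (T₄).refl 1 (simp4 1)
      rw [hs1.2.1]; exact e.2.1.trans hr.2.1.symm
    · show p 2 = (T₄).refl 1 (simp4 2)
      rw [hs1.2.2.1]; exact e.2.2.1.trans hr.2.2.1.symm
    · show p 3 = (T₄).refl 1 (simp4 3)
      rw [hs1.2.2.2]; exact e.2.2.2.trans hr.2.2.2.symm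

end CfsgLib.D4Torus
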